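import Cfsg.Agent.Lib.Goldschmidt53.NoCover.Rule
import Cfsg.Agent.Lib.Goldschmidt53.PairsY

/-!
# Descent of a moved component with non-trivial centre

If `C_X(D)`, `D ≤ A`, maps with kernel of odd order onto a group with such a component `K`, then
`X` has one: the 2-layer of `C_X(D)` lies in the layer of `X`, and a component of `X` on which the
part over `K` projects with image covering `K / Z(K)` is centralised by `D` (centralisers of
involutions of the known groups are solvable or have Sylow 2-subgroups of order 8) and maps onto `K`.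
Owner: helper1.
-/

set_option autoImplicit false
set_option linter.style.haveILetI false

universe u

namespace Cfsg.Agent.Lib.Goldschmidt53.NoCover

open Subgroup Cfsg.Agent.Lib.Components
open scoped IsMulCommutative

variable {X Z : Type u} [Group X] [Finite X] [Group Z] [Finite Z]

omit [Finite X] in
theorem mem_finset_inf {ι : Type*} {s : Finset ι} {f : ι → Subgroup X} {x : X} :
    x ∈ s.inf f ↔ ∀ i ∈ s, x ∈ f i := by
  classical
  induction s using Finset.induction with
  | empty => simp
  | @insert i s _ ih => rw [Finset.inf_insert, Subgroup.mem_inf, ih]; simp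

omit [Finite X] [Finite Z] in
/-- If the intersections of a subgroup `L` of a centraliser with two subgroups which it normalises
cover `K` then so does the intersection with both. -/
theorem covers_inf {D : Subgroup X} {L : Subgroup ↥(centralizer (D : Set X))}
    (q : ↥(centralizer (D : Set X)) →* Z) {K : Subgroup Z} (hKp : ⁅K, K⁆ = K) {N₁ N₂ : Subgroup X}
    (hn₁ : ∀ l ∈ L, ((l : ↥(centralizer (D : Set X))) : X) ∈ normalizer (N₁ : Set X))
    (hn₂ : ∀ l ∈ L, ((l : ↥(centralizer (D : Set X))) : X) ∈ normalizer (N₂ : Set X))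
    (h₁ : K ≤ (L ⊓ N₁.subgroupOf _).map q) (h₂ : K ≤ (L ⊓ N₂.subgroupOf _).map q) :
    K ≤ (L ⊓ (N₁ ⊓ N₂).subgroupOf _).map q := by
  rw [← hKp]
  refine (Subgroup.commutator_mono h₁ h₂).trans ?_
  rw [← Subgroup.map_commutator]
  refine Subgroup.map_mono (Subgroup.commutator_le.2 fun a ha b hb => ?_)
  refine ⟨?_, mem_subgroupOf.2 ⟨?_, ?_⟩⟩
  · rw [commutatorElement_def]
    exact L.mul_mem (L.mul_mem (L.mul_mem ha.1 hb.1) (L.inv_mem ha.1)) (L.inv_mem hb.1)
  · have h1 := conj_normalizer (hn₁ b hb.1) (inv_mem (mem_subgroupOf.1 ha.2))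
    rw [commutatorElement_def]
    simp only [Subgroup.coe_mul, InvMemClass.coe_inv]
    rw [mul_assoc, mul_assoc, ← mul_assoc (b : X)]
    exact N₁.mul_mem (mem_subgroupOf.1 ha.2) h1
  · have h1 := conj_normalizer (hn₂ a ha.1) (mem_subgroupOf.1 hb.2)
    rw [commutatorElement_def]
    simp only [Subgroup.coe_mul, InvMemClass.coe_inv]
    exact N₂.mul_mem h1 (N₂.inv_mem (mem_subgroupOf.1 hb.2))

omit [Finite X] in
/-- An element acting on a group `H = M C(M)` gives an element of `M / Z(M)`. -/
theorem exists_centralQuotientHom (M : Subgroup X) :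
    ∃ π : ↥(M ⊔ centralizer (M : Set X)) →* ↥M ⧸ Subgroup.center ↥M,
      ∀ (x : ↥(M ⊔ centralizer (M : Set X))) (m : ↥M),
        (m : X)⁻¹ * (x : X) ∈ centralizer (M : Set X) → π x = q M m := by
  set C := centralizer (M : Set X)
  have hn : M ≤ normalizer (C : Set X) :=
    le_normalizer.trans (Balance.normalizer_le_normalizer_centralizer M)
  have hex : ∀ x : ↥(M ⊔ C), ∃ m : ↥M, (m : X)⁻¹ * (x : X) ∈ C := by
    intro x
    have hx : (x : X) ∈ ((M ⊔ C : Subgroup X) : Set X) := x.2
    rw [Subgroup.coe_mul_of_left_le_normalizer_right _ _ hn] at hx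
    obtain ⟨m, hm, c, hc, hmc⟩ := hx
    refine ⟨⟨m, hm⟩, ?_⟩
    rw [← hmc]
    simpa using hc
  have huniq : ∀ (x : X) (m m' : ↥M), (m : X)⁻¹ * x ∈ C → (m' : X)⁻¹ * x ∈ C →
      q M m = q M m' := by
    intro x m m' h h'
    refine QuotientGroup.eq.2 (mem_center_of_mem_centralizer ?_)
    have := mul_mem h (inv_mem h')
    simpa [mul_assoc] using this
  choose f hf using hex
  refine ⟨MonoidHom.mk' (fun x => q M (f x)) fun x y => ?_,
    fun x m hm => huniq (x : X) _ _ (hf x) hm⟩
  rw [← map_mul]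
  refine huniq ((x * y : ↥(M ⊔ C)) : X) _ _ (hf (x * y)) ?_
  have e : ((f x * f y : ↥M) : X)⁻¹ * ((x * y : ↥(M ⊔ C)) : X) =
      ((f y : X)⁻¹ * ((f x : X)⁻¹ * (x : X)) * (f y : X)) * ((f y : X)⁻¹ * (y : X)) := by
    simp only [Subgroup.coe_mul]; group
  rw [e]
  refine mul_mem ?_ (hf y)
  have h1 := conj_normalizer (inv_mem (hn (f y).2)) (hf x)
  rwa [inv_inv] at h1

/-- The descent. -/
theorem exists_down (hF : PropFacts.{u}) (hO : Cfsg.oddCore X = ⊥) {A : Subgroup X}
    (hA : Cfsg.IsElementaryAbelian 2 A) (hD : Decomp A) {D : Subgroup X} (hDA : D ≤ A)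
    (φ : ↥(centralizer (D : Set X)) →* Z) (hφ : Function.Surjective φ)
    (hker : Odd (Nat.card φ.ker)) (hOZ : Cfsg.oddCore Z = ⊥) {K : Subgroup Z}
    (hK : Cfsg.IsComponent K)
    (hnc : ¬ (A.subgroupOf (centralizer (D : Set X))).map φ ≤ centralizer (K : Set Z))
    (hne : Subgroup.center ↥K ≠ ⊥) (h64 : 64 ∣ Nat.card (↥K ⧸ Subgroup.center ↥K)) :
    ∃ M : Subgroup X, Cfsg.IsComponent M ∧ ¬ A ≤ centralizer (M : Set X) ∧
      Subgroup.center ↥M ≠ ⊥ := by
  classical
  haveI : Fact (Nat.Prime 2) := ⟨Nat.prime_two⟩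
  haveI : Fintype (Subgroup X) := Fintype.ofFinite _
  set L : Subgroup ↥(centralizer (D : Set X)) := Cfsg.pLayer 2 ↥(centralizer (D : Set X)) ⊓ K.comap φ with hLdef
  have hKL : K ≤ L.map φ := by
    intro k hk
    obtain ⟨l, hl, rfl⟩ := Pairs.layer_le_map φ hφ hker hOZ (Layer.component_le_layer hK hk)
    exact mem_map_of_mem φ ⟨hl, hk⟩
  have hLX : ∀ l ∈ L, ((l : ↥(centralizer (D : Set X))) : X) ∈ Cfsg.layer X := by
    intro l hl
    rw [← Pairs.pLayer_eq_layer hO]
    exact Cfsg.Agent.S1301.result D ((PGroups.elemAb_isPGroup hA).to_le hDA)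
      (mem_map_of_mem _ hl.1)
  have hLn : ∀ M : Subgroup X, Cfsg.IsComponent M → ∀ l ∈ L,
      ((l : ↥(centralizer (D : Set X))) : X) ∈ normalizer (centralizer (M : Set X) : Set X) := fun M hM l hl =>
    Balance.normalizer_le_normalizer_centralizer M (Layer.layer_le_normalizer hM (hLX l hl))
  have hKp := Component.commutator_self hK
  -- some component is not centralised by a part covering `K`
  obtain ⟨M, hM, hMnot⟩ : ∃ M : Subgroup X, Cfsg.IsComponent M ∧
      ¬ K ≤ (L ⊓ (centralizer (M : Set X)).subgroupOf (centralizer (D : Set X))).map φ := by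
    by_contra! hall
    have key : ∀ s : Finset (Subgroup X), (∀ M ∈ s, Cfsg.IsComponent M) →
        K ≤ (L ⊓ (s.inf fun M => centralizer (M : Set X)).subgroupOf (centralizer (D : Set X))).map φ := by
      intro s
      induction s using Finset.induction with
      | empty => intro _; simpa using hKL
      | @insert M s _ ih =>
        intro hs
        rw [Finset.inf_insert]
        have hM' := hall M (hs M (Finset.mem_insert_self M s))
        have hs' := ih fun N hN => hs N (Finset.mem_insert_of_mem hN)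
        refine covers_inf (L := L) (N₁ := centralizer (M : Set X))
          (N₂ := s.inf fun N => centralizer (N : Set X)) φ hKp
          (hLn M (hs M (Finset.mem_insert_self M s))) ?_ hM' hs'
        intro l hl
        have hnorm : ∀ N ∈ s, ((l : ↥(centralizer (D : Set X))) : X) ∈ normalizer (centralizer (N : Set X) : Set X) :=
          fun N hN => hLn N (hs N (Finset.mem_insert_of_mem hN)) l hl
        refine Subgroup.mem_normalizer_iff.2 fun x => ?_
        rw [mem_finset_inf, mem_finset_inf]
        exact forall₂_congr fun N hN => Subgroup.mem_normalizer_iff.1 (hnorm N hN) x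
    have h := key (Finset.univ.filter fun M => Cfsg.IsComponent M) fun M hM =>
      (Finset.mem_filter.1 hM).2
    refine Component.not_isMulCommutative hK ⟨⟨fun a b => Subtype.ext ?_⟩⟩
    obtain ⟨a', ha', hae⟩ := h a.2
    obtain ⟨b', hb', hbe⟩ := h b.2
    have hb2 : ((b' : ↥(centralizer (D : Set X))) : X) ∈ centralizer (Cfsg.layer X : Set X) :=
      Walter.Pairs.mem_centralizer_layer fun M hM => by
        exact mem_finset_inf.1 (mem_subgroupOf.1 hb'.2) M (by simp [hM])
    show (a : Z) * b = b * a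
    rw [← hae, ← hbe, ← map_mul, ← map_mul]
    exact congrArg φ (Subtype.ext (mem_centralizer_iff.1 hb2 _ (hLX a' ha'.1)))
  -- what centralises `M` maps into the centre of `K`
  have hsmall : ∀ l ∈ L, ((l : ↥(centralizer (D : Set X))) : X) ∈ centralizer (M : Set X) → ∀ hk : φ l ∈ K,
      (⟨φ l, hk⟩ : ↥K) ∈ Subgroup.center ↥K := by
    set N := ((L ⊓ (centralizer (M : Set X)).subgroupOf (centralizer (D : Set X))).map φ).subgroupOf K
    have hNn : N.Normal := by
      refine ⟨?_⟩
      intro n hn g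
      obtain ⟨l, hl, hle⟩ := hKL g.2
      obtain ⟨n', hn', hne'⟩ := mem_subgroupOf.1 hn
      refine mem_subgroupOf.2 ⟨l * n' * l⁻¹, ⟨L.mul_mem (L.mul_mem hl hn'.1) (L.inv_mem hl),
        mem_subgroupOf.2 (conj_normalizer (hLn M hM l hl) (mem_subgroupOf.1 hn'.2))⟩, ?_⟩
      rw [map_mul, map_mul, map_inv, hle, hne']
      rfl
    rcases Quasisimple.normal_le_center_or_eq_top hK.2 hNn with hc | ht
    · intro l hl hlM hk
      exact hc (mem_subgroupOf.2 ⟨l, ⟨hl, mem_subgroupOf.2 hlM⟩, rfl⟩)
    · exact absurd (subgroupOf_eq_top.1 ht) hMnot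
  have hLK : ∀ l ∈ L, φ l ∈ K := fun l hl => hl.2
  by_cases hDM : D ≤ centralizer (M : Set X)
  · -- `M` maps onto `K`
    have hMY : M ≤ (centralizer (D : Set X)) := fun m hm => mem_centralizer_iff.2 fun d hd =>
      (mem_centralizer_iff.1 (hDM hd) m hm).symm
    set f : ↥M →* Z := φ.comp (inclusion hMY) with hf
    have hinj : Function.Injective f := by
      rw [← MonoidHom.ker_eq_bot_iff]
      have hoddker : Odd (Nat.card f.ker) := by
        refine hker.of_dvd_nat ?_
        rw [← card_map_of_injective (f := inclusion hMY) (inclusion_injective hMY)]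
        refine card_dvd_of_le ?_
        rintro _ ⟨m, hm, rfl⟩
        exact hm
      rcases Quasisimple.normal_le_center_or_eq_top hM.2 f.normal_ker with hc | ht
      · rw [Subgroup.eq_bot_iff_forall]
        intro m hm
        obtain ⟨i, hi⟩ := IsPGroup.iff_orderOf.1 (center_isPGroup hO hM) ⟨m, hc hm⟩
        rw [Subgroup.orderOf_mk] at hi
        exact orderOf_eq_one_iff.1 (Nat.eq_one_of_dvd_coprimes
          ((Nat.coprime_two_left.2 hoddker).pow_left i) (hi ▸ dvd_rfl)
          (Subgroup.orderOf_dvd_natCard _ hm))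
      · rw [ht, Subgroup.card_top] at hoddker
        exact absurd (OddOrder.FeitThompson.isSolvable_of_odd_card hoddker)
          (Component.not_isSolvable hM)
    set M₁ := (M.subgroupOf (centralizer (D : Set X))).map φ with hM₁
    have hrange : f.range = M₁ := by
      rw [hf, MonoidHom.range_comp, Subgroup.inclusion_range]
    have hM₁c : Cfsg.IsComponent M₁ := ⟨hM.1.subgroupOf.map hφ, Quasisimple.of_mulEquiv hM.2
      ((MonoidHom.ofInjective hinj).trans (MulEquiv.subgroupCongr hrange))⟩
    have heq : M₁ = K := by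
      by_contra hne'
      refine hMnot fun k hk => ?_
      obtain ⟨l, hl, rfl⟩ := hKL hk
      refine mem_map_of_mem φ ⟨hl, mem_subgroupOf.2 (mem_centralizer_iff.2 fun m hm => ?_)⟩
      have hlm : (l : X) * m * (l : X)⁻¹ ∈ M :=
        conj_normalizer (Layer.layer_le_normalizer hM (hLX l hl)) hm
      have h1 : φ (⟨m, hMY hm⟩ : ↥(centralizer (D : Set X))) ∈ centralizer (K : Set Z) :=
        Component.le_centralizer_of_ne hM₁c hK hne'
          (mem_map_of_mem φ (x := (⟨m, hMY hm⟩ : ↥(centralizer (D : Set X)))) (mem_subgroupOf.2 hm))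
      have h2 : f ⟨_, hlm⟩ = f ⟨m, hm⟩ := by
        have e : inclusion hMY ⟨_, hlm⟩ = l * ⟨m, hMY hm⟩ * l⁻¹ := Subtype.ext rfl
        show φ _ = φ _
        rw [e, map_mul, map_mul, map_inv, mem_centralizer_iff.1 h1 _ hk, mul_inv_cancel_right]
        rfl
      exact (mul_inv_eq_iff_eq_mul.1 (congrArg Subtype.val (hinj h2))).symm
    refine ⟨M, hM, fun hAc => hnc ?_, fun hbot => hne ?_⟩
    · rintro _ ⟨a, ha, rfl⟩
      refine mem_centralizer_iff.2 ?_
      rw [← heq]
      rintro _ ⟨m, hm, rfl⟩
      rw [← map_mul, ← map_mul]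
      exact congrArg φ (Subtype.ext
        (mem_centralizer_iff.1 (hAc (mem_subgroupOf.1 ha)) _ (mem_subgroupOf.1 hm)))
    · let e : ↥M ≃* ↥K := (MonoidHom.ofInjective hinj).trans
        (MulEquiv.subgroupCongr (hrange.trans heq))
      refine Subgroup.eq_bot_of_card_eq _ ?_
      rw [← Nat.card_congr (Subgroup.centerCongr e).toEquiv, hbot, Subgroup.card_bot]
  · -- an element of `D` moves `M`: impossible
    exfalso
    obtain ⟨d, hdD, hdM⟩ := SetLike.not_le_iff_exists.1 hDM
    obtain ⟨hkn, P, hom⟩ := (hD.cases M hM).resolve_left fun h => hDM (hDA.trans h)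
    have hf := hF _ hkn
    obtain ⟨π, hπ⟩ := exists_centralQuotientHom M
    obtain ⟨w, hw, hwd⟩ := exists_split hD hM (hDA hdD)
    set w' : ↥M := ⟨w, hw.2⟩
    have hwne : q M w' ≠ 1 := fun h => hdM (by
      have := mul_mem (mem_centralizer_of_mem_center ((QuotientGroup.eq_one_iff w').1 h)) hwd
      simpa [w'] using this)
    have hw2 : orderOf (q M w') = 2 := orderOf_eq_prime (by
      rw [← map_pow, show w' ^ 2 = 1 from Subtype.ext (hA.2 w hw.1), map_one]) hwne
    have hlayer : Cfsg.layer X ≤ (M ⊔ centralizer (M : Set X)) := sSup_le fun K' hK' => by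
      by_cases he : K' = M
      · exact he ▸ le_sup_left
      · exact (Component.le_centralizer_of_ne hK' hM he).trans le_sup_right
    have hdH : d ∈ (M ⊔ centralizer (M : Set X)) := by
      simpa [mul_assoc] using (M ⊔ centralizer (M : Set X)).mul_mem (mem_sup_left hw.2) (mem_sup_right hwd)
    let g : ↥L →* ↥M ⧸ Subgroup.center ↥M :=
      π.comp (((centralizer (D : Set X)).subtype.comp L.subtype).codRestrict (M ⊔ centralizer (M : Set X)) fun l => hlayer (hLX l l.2))
    have hg : g.range ≤ centralizer ({q M w'} : Set _) := by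
      rintro _ ⟨l, rfl⟩
      refine mem_centralizer_singleton_iff.2 ?_
      rw [← hπ ⟨d, hdH⟩ w' hwd]
      show π _ * π _ = π _ * π _
      rw [← map_mul, ← map_mul]
      exact congrArg π (Subtype.ext (mem_centralizer_iff.1 (l : ↥(centralizer (D : Set X))).2 d hdD).symm)
    let κ : ↥L →* ↥K ⧸ Subgroup.center ↥K :=
      (NoCover.q K).comp ((φ.comp L.subtype).codRestrict K fun l => hLK l l.2)
    have hκ : Function.Surjective κ := fun v => by
      obtain ⟨k, rfl⟩ := QuotientGroup.mk'_surjective _ v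
      obtain ⟨l, hl, hle⟩ := hKL k.2
      exact ⟨⟨l, hl⟩, congrArg (NoCover.q K) (Subtype.ext hle)⟩
    have hle : g.rangeRestrict.ker ≤ κ.ker := by
      rw [MonoidHom.ker_rangeRestrict]
      intro l hl
      obtain ⟨m, hm, c, hc, hmc⟩ : ∃ m ∈ M, ∃ c ∈ centralizer (M : Set X),
          m * c = ((l : ↥(centralizer (D : Set X))) : X) := by
        have hx : ((l : ↥(centralizer (D : Set X))) : X) ∈ (((M ⊔ centralizer (M : Set X)) : Subgroup X) : Set X) := hlayer (hLX l l.2)
        rw [Subgroup.coe_mul_of_left_le_normalizer_right _ _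
          (le_normalizer.trans (Balance.normalizer_le_normalizer_centralizer M))] at hx
        obtain ⟨m, hm, c, hc, hmc⟩ := hx
        exact ⟨m, hm, c, hc, hmc⟩
      have hmc' : m⁻¹ * ((l : ↥(centralizer (D : Set X))) : X) = c := by rw [← hmc, inv_mul_cancel_left]
      have h1 : q M ⟨m, hm⟩ = 1 := by
        rw [← hπ ⟨_, hlayer (hLX l l.2)⟩ ⟨m, hm⟩ (hmc'.symm ▸ hc)]
        exact hl
      have h2 : ((l : ↥(centralizer (D : Set X))) : X) ∈ centralizer (M : Set X) :=
        hmc ▸ mul_mem (mem_centralizer_of_mem_center ((QuotientGroup.eq_one_iff _).1 h1)) hc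
      exact (QuotientGroup.eq_one_iff _).2 (hsmall l l.2 h2 (hLK l l.2))
    let ρ : ↥g.range →* ↥K ⧸ Subgroup.center ↥K :=
      g.rangeRestrict.liftOfSurjective g.rangeRestrict_surjective ⟨κ, hle⟩
    have hρ : Function.Surjective ρ := fun v => by
      obtain ⟨l, rfl⟩ := hκ v
      exact ⟨g.rangeRestrict l,
        g.rangeRestrict.liftOfRightInverse_comp_apply _ _ _ l⟩
    by_cases hJR : Walter.IsJR (↥M ⧸ Subgroup.center ↥M)
    · obtain ⟨R⟩ : Nonempty (Sylow 2 (↥M ⧸ Subgroup.center ↥M)) := inferInstance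
      have hd : 2 ^ 6 ∣ Nat.card (↥M ⧸ Subgroup.center ↥M) := by
        refine dvd_trans ?_ (Subgroup.card_subgroup_dvd_card g.range)
        exact (show (2 : ℕ) ^ 6 = 64 by norm_num) ▸ h64.trans (Subgroup.card_dvd_of_surjective ρ hρ)
      have h8 := R.pow_dvd_card_of_pow_dvd_card hd
      rw [hJR.card_sylow R] at h8
      norm_num at h8
    · haveI := hf.solvable hJR _ hw2
      haveI : Group.IsSolvable ↥g.range :=
        Group.isSolvable_of_isSolvable_injective (f := Subgroup.inclusion hg)
          (Subgroup.inclusion_injective hg)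
      refine Component.not_isSolvable hK ?_
      rw [Group.isSolvable_iff_subgroup_quotient (Subgroup.center ↥K)]
      exact ⟨inferInstance, Group.isSolvable_of_surjective hρ⟩

end Cfsg.Agent.Lib.Goldschmidt53.NoCover
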