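import Cfsg.Agent.Lib.Goldschmidt53.Interface
import Cfsg.Agent.Lib.Balance.Permute
import Cfsg.Agent.Lib.Components.GenFitting
import Cfsg.Agent.Lib.Walter.PairsX
import Cfsg.Agent.Lib.PGroups.Omega

/-!
# A component with non-trivial centre which `A` moves

In a group with trivial odd core such a component `K` has `|Ω₁(P)| = 8`, `|P| = 64` for a Sylow
2-subgroup `P` of `K / Z(K)`, and some lift of `Ω₁(P)` is not central in the preimage of `P`
(`PropFacts`: only the double covers of `Sz(8)` have all involutions lifting to involutions).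
Owner: helper1.
-/

set_option autoImplicit false
set_option linter.style.haveILetI false

universe u

namespace Cfsg.Agent.Lib.Goldschmidt53.NoCover

open Subgroup Cfsg.Agent.Lib.Components
open scoped IsMulCommutative

variable {X : Type u} [Group X]

/-- The projection of a subgroup on its central quotient. -/
abbrev q (K : Subgroup X) : ↥K →* ↥K ⧸ Subgroup.center ↥K := QuotientGroup.mk' _

theorem sq_one {A : Subgroup X} (hA : Cfsg.IsElementaryAbelian 2 A) {x : X} (hx : x ∈ A) :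
    x * x = 1 := by rw [← pow_two]; exact hA.2 x hx

theorem inv_self {A : Subgroup X} (hA : Cfsg.IsElementaryAbelian 2 A) {x : X} (hx : x ∈ A) :
    x⁻¹ = x := inv_eq_of_mul_eq_one_right (sq_one hA hx)

theorem comm_of_mem {A : Subgroup X} (hA : Cfsg.IsElementaryAbelian 2 A) {x y : X} (hx : x ∈ A)
    (hy : y ∈ A) : x * y = y * x :=
  congrArg Subtype.val (hA.1.is_comm.comm (⟨x, hx⟩ : A) ⟨y, hy⟩)

/-- `K` is a component not centralised by `A` of the kind to be excluded; `P` is a Sylow 2-subgroup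
of `K / Z(K)` whose `Ω₁` is the image of `A ∩ K`. -/
structure IsCover (A K : Subgroup X) (P : Sylow 2 (↥K ⧸ Subgroup.center ↥K)) : Prop where
  comp : Cfsg.IsComponent K
  facts : Facts (↥K ⧸ Subgroup.center ↥K)
  om : (A.subgroupOf K).map (q K) = Om P
  card_om : Nat.card ↥(Om P) = 8
  card_sylow : Nat.card ↥(P : Subgroup (↥K ⧸ Subgroup.center ↥K)) = 64
  noncomm : ∃ w y : ↥K, (w : X) ∈ A ∧ q K y ∈ (P : Subgroup (↥K ⧸ Subgroup.center ↥K)) ∧
    w * y ≠ y * w

theorem exists_lift_om {A K : Subgroup X} {P : Sylow 2 (↥K ⧸ Subgroup.center ↥K)}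
    (hom : (A.subgroupOf K).map (q K) = Om P) {v : ↥K ⧸ Subgroup.center ↥K} (hv : v ∈ Om P) :
    ∃ w : ↥K, (w : X) ∈ A ∧ q K w = v := by
  rw [← hom] at hv
  exact hv

variable [Finite X]

/-- The centre of a component of a group with trivial odd core lies in `O₂`. -/
theorem center_le_pCore (hO : Cfsg.oddCore X = ⊥) {K : Subgroup X} (hK : Cfsg.IsComponent K) :
    (Subgroup.center ↥K).map K.subtype ≤ Cfsg.pCore 2 X := by
  haveI : Fact (Nat.Prime 2) := ⟨Nat.prime_two⟩
  rw [← Balance.fitting_eq_pCore hO]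
  refine Cores.IsSubnormal.le_fittingSubgroup
    ((Subgroup.Normal.isSubnormal inferInstance).trans' hK.1) ?_
  exact Cores.isNilpotent_map K.subtype CommGroup.isNilpotent

theorem center_isPGroup (hO : Cfsg.oddCore X = ⊥) {K : Subgroup X} (hK : Cfsg.IsComponent K) :
    IsPGroup 2 ↥(Subgroup.center ↥K) := by
  haveI : Fact (Nat.Prime 2) := ⟨Nat.prime_two⟩
  exact ((Cores.pCore_isPGroup 2).to_le (center_le_pCore hO hK)).of_equiv
    ((Subgroup.center ↥K).equivMapOfInjective K.subtype K.subtype_injective).symm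

/-- The facts about a moved component with non-trivial centre. -/
theorem exists_isCover (hF : PropFacts.{u}) (hO : Cfsg.oddCore X = ⊥) {A : Subgroup X}
    (hA : Cfsg.IsElementaryAbelian 2 A) (hD : Decomp A) {K : Subgroup X} (hK : Cfsg.IsComponent K)
    (hnc : ¬ A ≤ centralizer (K : Set X)) (hne : Subgroup.center ↥K ≠ ⊥) (T : Sylow 2 X)
    (hAT : A ≤ (T : Subgroup X)) :
    ∃ P : Sylow 2 (↥K ⧸ Subgroup.center ↥K), IsCover A K P ∧
      ∀ y : ↥K, q K y ∈ (P : Subgroup (↥K ⧸ Subgroup.center ↥K)) ↔ (y : X) ∈ (T : Subgroup X) := by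
  classical
  haveI : Fact (Nat.Prime 2) := ⟨Nat.prime_two⟩
  obtain ⟨hkn, P₀, hom₀⟩ := (hD.cases K hK).resolve_left hnc
  have hf := hF _ hkn
  obtain ⟨R, hR⟩ := Walter.Pairs.exists_sylow_subnormal T hK.1
  let P : Sylow 2 (↥K ⧸ Subgroup.center ↥K) :=
    R.mapSurjective (QuotientGroup.mk'_surjective (Subgroup.center ↥K))
  have hP : ∀ y : ↥K, q K y ∈ (P : Subgroup (↥K ⧸ Subgroup.center ↥K)) ↔
      (y : X) ∈ (T : Subgroup X) := by
    intro y
    rw [Sylow.coe_mapSurjective, hR]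
    refine ⟨?_, fun h => mem_map_of_mem _ (mem_subgroupOf.2 h)⟩
    rintro ⟨r, hr, hry⟩
    have hz : r⁻¹ * y ∈ Subgroup.center ↥K := QuotientGroup.eq.1 hry
    have h := mul_mem (mem_subgroupOf.1 hr)
      (Cores.pCore_le_sylow T (center_le_pCore hO hK (mem_map_of_mem K.subtype hz)))
    simpa using h
  have hom : (A.subgroupOf K).map (q K) = Om P := by
    obtain ⟨g, hg⟩ := MulAction.exists_smul_eq (↥K ⧸ Subgroup.center ↥K) P₀ P
    have hcard : Nat.card ↥(Om P) = Nat.card ↥(Om P₀) := by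
      show Nat.card ↥(Cfsg.omegaOne 2 (P : Subgroup (↥K ⧸ Subgroup.center ↥K))) = _
      rw [← hg, Sylow.coe_subgroup_smul, Coprime.conj_smul_eq_map]
      show Nat.card ↥(Cfsg.omegaOne 2
        ((P₀ : Subgroup (↥K ⧸ Subgroup.center ↥K)).map (MulAut.conj g).toMonoidHom)) = _
      rw [← PGroups.map_omegaOne_of_injective _ (MulAut.conj g).injective]
      exact Subgroup.card_map_of_injective (MulAut.conj g).injective
    rw [hom₀]
    refine Subgroup.eq_of_le_of_card_ge ?_ hcard.le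
    intro v hv
    obtain ⟨w, hwA, rfl⟩ := exists_lift_om hom₀ hv
    refine Subgroup.subset_closure ⟨(hP w).2 (hAT hwA), ?_⟩
    rw [← map_pow, show w ^ 2 = 1 from Subtype.ext (hA.2 _ hwA), map_one]
  set Z := Subgroup.center ↥K with hZdef
  -- a maximal subgroup of the centre
  obtain ⟨n, hn⟩ := IsPGroup.iff_card.1 (center_isPGroup hO hK)
  have hn0 : n ≠ 0 := fun h => hne (Subgroup.eq_bot_of_card_eq _ (by rw [hn, h, pow_zero]))
  obtain ⟨m, rfl⟩ := Nat.exists_eq_succ_of_ne_zero hn0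
  obtain ⟨H, hH⟩ := Sylow.exists_subgroup_card_pow_prime (G := ↥Z) 2 (n := m)
    (by rw [hn]; exact pow_dvd_pow 2 m.le_succ)
  set Z₀ : Subgroup ↥K := H.map Z.subtype with hZ₀
  have hZ₀Z : Z₀ ≤ Z := Subgroup.map_subtype_le H
  haveI : Z₀.Normal := ⟨fun z hz g => by
    rwa [Subgroup.mem_center_iff.1 (hZ₀Z hz) g, mul_inv_cancel_right]⟩
  let π : ↥K ⧸ Z₀ →* ↥K ⧸ Z :=
    QuotientGroup.map Z₀ Z (MonoidHom.id ↥K) (by rw [Subgroup.comap_id]; exact hZ₀Z)
  have hπmk : ∀ x : ↥K, π (QuotientGroup.mk' Z₀ x) = q K x := fun x => rfl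
  have hπs : Function.Surjective π := fun v => by
    obtain ⟨x, rfl⟩ := QuotientGroup.mk'_surjective Z v
    exact ⟨QuotientGroup.mk' Z₀ x, hπmk x⟩
  have hker : π.ker = Z.map (QuotientGroup.mk' Z₀) := by
    ext v
    obtain ⟨x, rfl⟩ := QuotientGroup.mk'_surjective Z₀ v
    rw [MonoidHom.mem_ker, hπmk]
    refine ⟨fun h => mem_map_of_mem _ ((QuotientGroup.eq_one_iff x).1 h), ?_⟩
    rintro ⟨z, hz, hzx⟩
    rw [← hπmk, ← hzx, hπmk]
    exact (QuotientGroup.eq_one_iff z).2 hz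
  have hcen : π.ker ≤ Subgroup.center (↥K ⧸ Z₀) := by
    rw [hker]
    rintro _ ⟨z, hz, rfl⟩
    refine Subgroup.mem_center_iff.2 fun v => ?_
    obtain ⟨x, rfl⟩ := QuotientGroup.mk'_surjective Z₀ v
    rw [← map_mul, ← map_mul, Subgroup.mem_center_iff.1 hz x]
  have hcard : Nat.card π.ker = 2 := by
    let f : ↥Z →* ↥K ⧸ Z₀ := (QuotientGroup.mk' Z₀).comp Z.subtype
    have hfk : f.ker = H := by
      show ((QuotientGroup.mk' Z₀).comp Z.subtype).ker = H
      rw [← MonoidHom.comap_ker, QuotientGroup.ker_mk', hZ₀]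
      exact Subgroup.comap_map_eq_self_of_injective Z.subtype_injective H
    have hfr : f.range = π.ker := by
      rw [hker, MonoidHom.range_comp, Subgroup.range_subtype]
    rw [← hfr, ← Subgroup.index_ker, hfk]
    have h := H.card_mul_index
    rw [hH, hn, pow_succ] at h
    exact Nat.eq_of_mul_eq_mul_left (pow_pos two_pos m) h
  haveI := hK.2.1
  have hperf : Group.IsPerfect (↥K ⧸ Z₀) := inferInstance
  -- every involution lifts to an involution
  have hlift : ∀ x : ↥K ⧸ Z₀, π x ≠ 1 → π x * π x = 1 → x * x = 1 := by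
    intro x hx1 hx2
    have hox : orderOf (π x) = 2 := orderOf_eq_prime (by rw [pow_two]; exact hx2) hx1
    obtain ⟨⟨v, hv⟩, hv1⟩ := Subgroup.ne_bot_iff_exists_ne_one.1
      (show Om P ≠ ⊥ from fun h => by
        have h4 := hf.four_le P
        rw [h, Subgroup.card_bot] at h4
        omega)
    have hov : orderOf v = 2 :=
      orderOf_eq_prime ((hf.omega_elementary P).2 v hv) fun h => hv1 (Subtype.ext h)
    obtain ⟨g, hg⟩ := isConj_iff.1 (hf.conj v (π x) hov hox)
    obtain ⟨w, hwA, rfl⟩ := exists_lift_om hom hv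
    obtain ⟨g, rfl⟩ := QuotientGroup.mk'_surjective Z g
    set y := QuotientGroup.mk' Z₀ (g * w * g⁻¹) with hy
    have hyx : π y = π x := by rw [hy, hπmk, map_mul, map_mul, map_inv]; exact hg
    have hc : y⁻¹ * x ∈ π.ker := by rw [MonoidHom.mem_ker, map_mul, map_inv, hyx, inv_mul_cancel]
    have hc2 : (y⁻¹ * x) * (y⁻¹ * x) = 1 := by
      have h : (⟨_, hc⟩ : π.ker) ^ 2 = 1 := hcard ▸ pow_card_eq_one' (x := (⟨_, hc⟩ : π.ker))
      rw [pow_two] at h
      exact congrArg Subtype.val h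
    have hy2 : y * y = 1 := by
      have hww : w * w = 1 := Subtype.ext (sq_one hA hwA)
      rw [hy, ← map_mul, show g * w * g⁻¹ * (g * w * g⁻¹) = g * (w * w) * g⁻¹ by group, hww,
        mul_one, mul_inv_cancel, map_one]
    have hcomm := Subgroup.mem_center_iff.1 (hcen hc) y
    calc x * x = (y * (y⁻¹ * x)) * (y * (y⁻¹ * x)) := by rw [mul_inv_cancel_left]
      _ = y * ((y⁻¹ * x) * y) * (y⁻¹ * x) := by group
      _ = y * (y * (y⁻¹ * x)) * (y⁻¹ * x) := by rw [hcomm]
      _ = (y * y) * ((y⁻¹ * x) * (y⁻¹ * x)) := by group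
      _ = 1 := by rw [hy2, hc2, one_mul]
  obtain ⟨h8, h64⟩ := hf.cover_small (↥K ⧸ Z₀) π hπs hperf hcen hcard hlift P
  refine ⟨P, ⟨hK, hf, hom, h8, h64, ?_⟩, hP⟩
  by_contra hno
  push Not at hno
  obtain ⟨x, hx1, hx2, hx3⟩ := hf.cover (↥K ⧸ Z₀) π hπs hperf hcen hcard P fun x y hx hy => by
    obtain ⟨x, rfl⟩ := QuotientGroup.mk'_surjective Z₀ x
    obtain ⟨y, rfl⟩ := QuotientGroup.mk'_surjective Z₀ y
    rw [hπmk] at hx hy
    obtain ⟨w, hwA, hwx⟩ := exists_lift_om hom hx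
    obtain ⟨z, hz, rfl⟩ : ∃ z ∈ Z, w * z = x :=
      ⟨w⁻¹ * x, QuotientGroup.eq.1 hwx, mul_inv_cancel_left w x⟩
    rw [← map_mul, ← map_mul]
    congr 1
    calc w * z * y = w * (z * y) := mul_assoc _ _ _
      _ = w * (y * z) := by rw [Subgroup.mem_center_iff.1 hz y]
      _ = w * y * z := (mul_assoc _ _ _).symm
      _ = y * w * z := by rw [hno w y hwA hy]
      _ = y * (w * z) := mul_assoc _ _ _
  exact hx3 (hlift x hx1 hx2)

end Cfsg.Agent.Lib.Goldschmidt53.NoCover
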