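import Cfsg.Agent.Lib.Goldschmidt53.NoCover.Rule
import Mathlib.GroupTheory.Index

/-!
# The action of the Sylow subgroup of a moved component with centre on `A`

`E = T ∩ K` induces on `A` a group of order 8, and every non-trivial element of it has the same
commutator group `Z₁ ≤ A ∩ Z(K)`, of order at most 4.
Owner: helper1.
-/

set_option autoImplicit false
set_option linter.style.haveILetI false

universe u

namespace Cfsg.Agent.Lib.Goldschmidt53.NoCover

open Subgroup

variable {X : Type u} [Group X]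

/-- The commutator of `e` with `a`. -/
abbrev cm (e a : X) : X := e * a * e⁻¹ * a⁻¹

theorem cm_mul_right {e a b : X} (h : a * cm e b = cm e b * a) :
    cm e (a * b) = cm e a * cm e b := by
  have h1 : cm e (a * b) = cm e a * (a * cm e b * a⁻¹) := by simp only [cm]; group
  rw [h1, h, mul_inv_cancel_right]

theorem cm_mul_left {e e' a : X} (h : e * cm e' a = cm e' a * e) :
    cm (e * e') a = cm e' a * cm e a := by
  have h1 : cm (e * e') a = e * cm e' a * e⁻¹ * cm e a := by simp only [cm]; group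
  rw [h1, h, mul_inv_cancel_right]

theorem cm_one {e : X} : cm e 1 = 1 := by simp only [cm]; group

/-- The data. -/
structure Setup (A K : Subgroup X) (T : Sylow 2 X)
    (P : Sylow 2 (↥K ⧸ Subgroup.center ↥K)) : Prop where
  elem : Cfsg.IsElementaryAbelian 2 A
  decomp : Decomp A
  closed : Cfsg.IsStronglyClosed A (T : Subgroup X)
  cover : IsCover A K P
  mem_sylow : ∀ y : ↥K, q K y ∈ (P : Subgroup (↥K ⧸ Subgroup.center ↥K)) ↔
    (y : X) ∈ (T : Subgroup X)

variable [Finite X] {A K : Subgroup X} {T : Sylow 2 X} {P : Sylow 2 (↥K ⧸ Subgroup.center ↥K)}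

namespace Setup

variable (s : Setup A K T P)
include s

/-- `A` centralises the centre of `K`. -/
theorem center_comm {z : ↥K} (hz : z ∈ Subgroup.center ↥K) {a : X} (ha : a ∈ A) :
    a * z = z * a := by
  obtain ⟨w, hw, hwc⟩ := exists_split s.decomp s.cover.comp ha
  have h1 : (z : X) * (w⁻¹ * a) = w⁻¹ * a * z := mem_centralizer_iff.1 hwc _ z.2
  have h2 : w * (z : X) = z * w :=
    congrArg Subtype.val (Subgroup.mem_center_iff.1 hz ⟨w, hw.2⟩)
  calc a * z = w * (w⁻¹ * a * z) := by group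
    _ = w * (z * (w⁻¹ * a)) := by rw [h1]
    _ = w * z * (w⁻¹ * a) := by group
    _ = z * w * (w⁻¹ * a) := by rw [h2]
    _ = z * a := by group

omit s [Finite X] in
/-- A commutator with an element of `K` only depends on the class modulo the centre. -/
theorem cm_congr {e w w' : ↥K} (h : q K w = q K w') : cm (e : X) (w : X) = cm (e : X) (w' : X) := by
  have hz : w⁻¹ * w' ∈ Subgroup.center ↥K := QuotientGroup.eq.1 h
  have e1 : cm e (w * (w⁻¹ * w')) = cm e w := by
    have h1 : cm e (w⁻¹ * w') = 1 := by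
      simp only [cm, Subgroup.mem_center_iff.1 hz e, mul_inv_cancel_right, mul_inv_cancel]
    rw [cm_mul_right (by rw [h1, mul_one, one_mul]), h1, mul_one]
  rw [mul_inv_cancel_left] at e1
  exact (congrArg Subtype.val e1).symm

omit [Finite X] in
theorem normalizes {e a : X} (he : e ∈ (T : Subgroup X)) (ha : a ∈ A) : e * a * e⁻¹ ∈ A :=
  s.closed.2 a ha e (mul_mem (mul_mem he (s.closed.1 ha)) (inv_mem he))

/-- `[E, A]` lies in `A ∩ Z(K)`. -/
theorem cm_mem {e a : X} (he : e ∈ (T : Subgroup X) ⊓ K) (ha : a ∈ A) :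
    cm e a ∈ A ⊓ (Subgroup.center ↥K).map K.subtype := by
  refine ⟨A.mul_mem (s.normalizes he.1 ha) (A.inv_mem ha), ?_⟩
  obtain ⟨w, hw, hwc⟩ := exists_split s.decomp s.cover.comp ha
  have h0 : cm e (w⁻¹ * a) = 1 := by
    simp only [cm, mem_centralizer_iff.1 hwc e he.2, mul_inv_cancel_right, mul_inv_cancel]
  have h1 : cm e a = cm e w := by
    conv_lhs => rw [← mul_inv_cancel_left w a]
    rw [cm_mul_right (by rw [h0, mul_one, one_mul]), h0, mul_one]
  rw [h1]
  refine ⟨cm (⟨e, he.2⟩ : ↥K) ⟨w, hw.2⟩, ?_, rfl⟩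
  rw [SetLike.mem_coe, ← QuotientGroup.eq_one_iff]
  show q K _ = 1
  simp only [cm, map_mul, map_inv]
  rw [← s.cover.facts.omega_central P (q K ⟨w, hw.2⟩)
    (s.cover.om ▸ mem_map_of_mem _ (mem_subgroupOf.2 hw.1)) (q K ⟨e, he.2⟩)
    ((s.mem_sylow ⟨e, he.2⟩).2 he.1)]
  group

theorem cm_fixed {e a g : X} (he : e ∈ (T : Subgroup X) ⊓ K) (ha : a ∈ A) (hg : g ∈ K) :
    g * cm e a = cm e a * g := by
  obtain ⟨z, hz, hze⟩ := (s.cm_mem he ha).2
  rw [← hze]
  exact congrArg Subtype.val (Subgroup.mem_center_iff.1 hz ⟨g, hg⟩)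

theorem cm_mul {e e' a : X} (he : e ∈ (T : Subgroup X) ⊓ K) (he' : e' ∈ (T : Subgroup X) ⊓ K)
    (ha : a ∈ A) : cm (e * e') a = cm e a * cm e' a := by
  rw [cm_mul_left (s.cm_fixed he' ha he.2)]
  exact comm_of_mem s.elem (s.cm_mem he' ha).1 (s.cm_mem he ha).1

theorem cm_mul_mem {e a b : X} (he : e ∈ (T : Subgroup X) ⊓ K) (ha : a ∈ A) (hb : b ∈ A) :
    cm e (a * b) = cm e a * cm e b :=
  cm_mul_right (comm_of_mem s.elem ha (s.cm_mem he hb).1)

theorem sq {e a : X} (he : e ∈ (T : Subgroup X) ⊓ K) (ha : a ∈ A) :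
    e * e * a * (e * e)⁻¹ = a := by
  have h := s.cm_mul he he ha
  rw [sq_one s.elem (s.cm_mem he ha).1] at h
  exact mul_inv_eq_one.1 h

omit [Finite X] in
/-- A lift of `Ω₁(P)` inside `A`. -/
theorem exists_lift (v : ↥(Om P)) : ∃ w : ↥K, (w : X) ∈ A ∧ q K w = v :=
  exists_lift_om s.cover.om v.2

/-- `v ↦ [e, w]`, `w` a lift of `v` in `A`. -/
noncomputable def form {e : X} (he : e ∈ (T : Subgroup X) ⊓ K) : ↥(Om P) →* X :=
  MonoidHom.mk' (fun v => cm e ((s.exists_lift v).choose : X)) fun v v' => by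
    have h1 := (s.exists_lift v).choose_spec
    have h2 := (s.exists_lift v').choose_spec
    have h3 := (s.exists_lift (v * v')).choose_spec
    rw [← s.cm_mul_mem he h1.1 h2.1]
    exact cm_congr (e := ⟨e, he.2⟩) (w' := (s.exists_lift v).choose * (s.exists_lift v').choose)
      (by rw [h3.2, map_mul, h1.2, h2.2, Subgroup.coe_mul])

theorem form_eq {e : X} (he : e ∈ (T : Subgroup X) ⊓ K) {v : ↥(Om P)} {w : ↥K}
    (hw : q K w = v) : s.form he v = cm e (w : X) :=
  cm_congr (e := ⟨e, he.2⟩) ((s.exists_lift v).choose_spec.2.trans hw.symm)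

/-- Every commutator is a value of the form. -/
theorem exists_form_eq {e a : X} (he : e ∈ (T : Subgroup X) ⊓ K) (ha : a ∈ A) :
    ∃ v : ↥(Om P), s.form he v = cm e a := by
  obtain ⟨w, hw, hwc⟩ := exists_split s.decomp s.cover.comp ha
  have h0 : cm e (w⁻¹ * a) = 1 := by
    simp only [cm, mem_centralizer_iff.1 hwc e he.2, mul_inv_cancel_right, mul_inv_cancel]
  refine ⟨⟨q K ⟨w, hw.2⟩, s.cover.om ▸ mem_map_of_mem _ (mem_subgroupOf.2 hw.1)⟩, ?_⟩
  rw [s.form_eq he (w := ⟨w, hw.2⟩) rfl]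
  conv_rhs => rw [← mul_inv_cancel_left w a]
  rw [cm_mul_right (by rw [h0, mul_one, one_mul]), h0, mul_one]

theorem form_mem {e : X} (he : e ∈ (T : Subgroup X) ⊓ K) (v : ↥(Om P)) :
    ∃ a ∈ A, cm e a = s.form he v :=
  ⟨_, (s.exists_lift v).choose_spec.1, rfl⟩

/-- The commutator group of one element has order at most four. -/
theorem card_form_le {e : X} (he : e ∈ (T : Subgroup X) ⊓ K) : Nat.card (s.form he).range ≤ 4 := by
  haveI : Fact (Nat.Prime 2) := ⟨Nat.prime_two⟩
  set y := q K ⟨e, he.2⟩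
  have hyP : y ∈ (P : Subgroup (↥K ⧸ Subgroup.center ↥K)) := (s.mem_sylow ⟨e, he.2⟩).2 he.1
  have hker : 2 ≤ Nat.card (s.form he).ker := by
    by_cases hy : y = 1
    · have htop : (s.form he).ker = ⊤ := by
        refine (Subgroup.eq_top_iff' _).2 fun v => MonoidHom.mem_ker.2 ?_
        obtain ⟨w, -, hw⟩ := s.exists_lift v
        rw [s.form_eq he hw]
        have hc : (⟨e, he.2⟩ : ↥K) ∈ Subgroup.center ↥K := (QuotientGroup.eq_one_iff _).1 hy
        have := congrArg Subtype.val (Subgroup.mem_center_iff.1 hc w)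
        simp only [Subgroup.coe_mul] at this
        simp only [cm, ← this, mul_inv_cancel_right, mul_inv_cancel]
      rw [htop, Subgroup.card_top, s.cover.card_om]
      norm_num
    · obtain ⟨k, hk⟩ := IsPGroup.iff_orderOf.1 P.2 ⟨y, hyP⟩
      rw [Subgroup.orderOf_mk] at hk
      obtain ⟨k, rfl⟩ : ∃ j, k = j + 1 := Nat.exists_eq_succ_of_ne_zero fun h0 => hy (by
        rw [h0, pow_zero] at hk; exact orderOf_eq_one_iff.1 hk)
      have hv2 : (y ^ 2 ^ k) ^ 2 = 1 := by rw [← pow_mul, ← pow_succ, ← hk, pow_orderOf_eq_one]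
      have hv1 : y ^ 2 ^ k ≠ 1 := pow_ne_one_of_lt_orderOf (by positivity)
        (by rw [hk]; exact Nat.pow_lt_pow_right one_lt_two (Nat.lt_succ_self k))
      set v : ↥(Om P) := ⟨y ^ 2 ^ k, Subgroup.subset_closure ⟨pow_mem hyP _, hv2⟩⟩
      have hv : v ∈ (s.form he).ker := by
        rw [MonoidHom.mem_ker, s.form_eq he (w := (⟨e, he.2⟩ : ↥K) ^ 2 ^ k) (map_pow _ _ _)]
        simp only [cm, SubmonoidClass.coe_pow, (Commute.self_pow e (2 ^ k)).eq, mul_inv_cancel_right,
          mul_inv_cancel]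
      by_contra hlt
      have := Nat.card_pos (α := (s.form he).ker)
      have h1 : Nat.card (s.form he).ker = 1 := by omega
      rw [Subgroup.eq_bot_of_card_eq _ h1, Subgroup.mem_bot] at hv
      exact hv1 (congrArg Subtype.val hv)
  have h := Subgroup.index_mul_card (s.form he).ker
  rw [Subgroup.index_ker, s.cover.card_om] at h
  nlinarith

omit s in
/-- The subgroup generated by the commutators. -/
def commSpan (A K : Subgroup X) (T : Sylow 2 X) : Subgroup X :=
  Subgroup.closure {x | ∃ e ∈ (T : Subgroup X) ⊓ K, ∃ a ∈ A, cm e a = x}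

theorem commSpan_le : commSpan A K T ≤ A ⊓ (Subgroup.center ↥K).map K.subtype := by
  rw [commSpan, Subgroup.closure_le]
  rintro _ ⟨e, he, a, ha, rfl⟩
  exact s.cm_mem he ha

omit s [Finite X] in
theorem cm_mem_commSpan {e a : X} (he : e ∈ (T : Subgroup X) ⊓ K) (ha : a ∈ A) :
    cm e a ∈ commSpan A K T :=
  Subgroup.subset_closure ⟨e, he, a, ha, rfl⟩

omit [Finite X] in
theorem commSpan_ne_bot : commSpan A K T ≠ ⊥ := by
  intro h
  obtain ⟨w, y, hwA, hy, hne⟩ := s.cover.noncomm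
  refine hne (Subtype.ext ?_)
  have h1 := cm_mem_commSpan (A := A) (⟨(s.mem_sylow y).1 hy, y.2⟩ : (y : X) ∈ (T : Subgroup X) ⊓ K) hwA
  rw [h, Subgroup.mem_bot] at h1
  exact (mul_inv_eq_iff_eq_mul.1 (mul_inv_eq_one.1 h1)).symm

/-- The elements of `T ∩ K` whose commutators with `A` lie in `H`. -/
def stab (H : Subgroup X) : Subgroup X where
  carrier := {e | e ∈ (T : Subgroup X) ⊓ K ∧ ∀ a ∈ A, cm e a ∈ H}
  one_mem' := ⟨one_mem _, fun a _ => by simp [cm]⟩
  mul_mem' := fun {e e'} he he' => ⟨mul_mem he.1 he'.1, fun a ha => by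
    rw [s.cm_mul he.1 he'.1 ha]; exact mul_mem (he.2 a ha) (he'.2 a ha)⟩
  inv_mem' := fun {e} he => ⟨inv_mem he.1, fun a ha => by
    have h := s.cm_mul (inv_mem he.1) he.1 ha
    rw [inv_mul_cancel, show cm 1 a = (1 : X) by simp [cm]] at h
    rw [eq_inv_of_mul_eq_one_left h.symm]
    exact inv_mem (he.2 a ha)⟩

/-- At most eight automorphisms of `A` are induced. -/
theorem relIndex_centralizer_le :
    (centralizer (A : Set X)).relIndex ((T : Subgroup X) ⊓ K) ≤ 8 := by
  haveI : Fact (Nat.Prime 2) := ⟨Nat.prime_two⟩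
  set E := (T : Subgroup X) ⊓ K
  let g : ↥E →* ↥K ⧸ Subgroup.center ↥K := (q K).comp (inclusion inf_le_right)
  have hg : g.range = (P : Subgroup (↥K ⧸ Subgroup.center ↥K)) := by
    refine le_antisymm ?_ fun v hv => ?_
    · rintro _ ⟨e, rfl⟩
      exact (s.mem_sylow _).2 e.2.1
    · obtain ⟨y, rfl⟩ := QuotientGroup.mk'_surjective _ v
      exact ⟨⟨y, (s.mem_sylow y).1 hv, y.2⟩, rfl⟩
  have hle : (Om P).comap g ≤ (centralizer (A : Set X)).subgroupOf E := by
    intro e he
    rw [mem_subgroupOf, mem_centralizer_iff]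
    intro a ha
    obtain ⟨w, hwA, hw⟩ := exists_lift_om s.cover.om he
    have hz : w⁻¹ * inclusion (inf_le_right : E ≤ K) e ∈ Subgroup.center ↥K :=
      QuotientGroup.eq.1 hw
    have h1 : a * (((w : X))⁻¹ * e) = (w : X)⁻¹ * e * a := s.center_comm hz ha
    have h2 : a * (w : X) = w * a := comm_of_mem s.elem ha hwA
    calc a * (e : X) = a * w * ((w : X)⁻¹ * e) := by group
      _ = w * (a * ((w : X)⁻¹ * e)) := by rw [h2, mul_assoc]
      _ = e * a := by rw [h1]; group
  have h1 : ((Om P).comap g).index = 8 := by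
    rw [Subgroup.index_comap, hg]
    have h := Subgroup.index_mul_card ((Om P).subgroupOf (P : Subgroup (↥K ⧸ Subgroup.center ↥K)))
    rw [Nat.card_congr (subgroupOfEquivOfLe (PGroups.omegaOne_le 2 _)).toEquiv, s.cover.card_om,
      s.cover.card_sylow] at h
    show ((Om P).subgroupOf (P : Subgroup (↥K ⧸ Subgroup.center ↥K))).index = 8
    omega
  exact (Nat.le_of_dvd (by rw [h1]; norm_num) (index_dvd_of_le hle)).trans h1.le

/-- For `H` of index two in the span only elements centralising `A` have commutators in `H`, and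
eight automorphisms are induced. -/
theorem stab_eq {H : Subgroup X}
    (hidx : H.relIndex (commSpan A K T) = 2) :
    s.stab H ≤ centralizer (A : Set X) ∧
      4 < (centralizer (A : Set X)).relIndex ((T : Subgroup X) ⊓ K) := by
  classical
  haveI : Fact (Nat.Prime 2) := ⟨Nat.prime_two⟩
  set E := (T : Subgroup X) ⊓ K with hE
  obtain ⟨e, he, hne⟩ : ∃ e ∈ E, ∃ a ∈ A, cm e a ∉ H := by
    by_contra! hno
    have hle : commSpan A K T ≤ H := by
      rw [commSpan, Subgroup.closure_le]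
      rintro _ ⟨e, he, a, ha, rfl⟩
      exact hno e he a ha
    rw [Subgroup.relIndex_eq_one.2 hle] at hidx
    omega
  obtain ⟨t, ht, -, htr⟩ := s.cover.facts.torus P
  have htN : t ∈ normalizer (Om P : Set (↥K ⧸ Subgroup.center ↥K)) := normalizer_sylow_le P ht
  set τ : MulAut ↥(Om P) := (Om P).normalizerMonoidHom ⟨t, htN⟩ with hτdef
  have hτk : ∀ (k : ℕ) (v : ↥(Om P)),
      (((τ ^ k) v : ↥(Om P)) : ↥K ⧸ Subgroup.center ↥K) = t ^ k * v * (t ^ k)⁻¹ := by
    intro k v; rw [hτdef, ← map_pow]; rfl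
  have hτ : Seven.Trans τ := by
    intro x hx y hy
    obtain ⟨k, hk⟩ := htr x x.2 (fun h => hx (Subtype.ext h)) y y.2 (fun h => hy (Subtype.ext h))
    exact ⟨k, Subtype.ext ((hτk k x).trans hk)⟩
  obtain ⟨g, rfl⟩ := QuotientGroup.mk'_surjective _ t
  -- the conjugates of `e` under the torus
  have hconj : ∀ k : ℕ, (g : X) ^ k * e * ((g : X) ^ k)⁻¹ ∈ E := by
    intro k
    have h1 : g ^ k * ⟨e, he.2⟩ * (g ^ k)⁻¹ ∈ K.subgroupOf K := mem_subgroupOf.2 (SetLike.coe_mem _)
    refine ⟨?_, by simpa using mem_subgroupOf.1 h1⟩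
    have h2 := conj_normalizer (pow_mem ht k) ((s.mem_sylow ⟨e, he.2⟩).2 he.1)
    rw [← map_pow, ← map_inv, ← map_mul, ← map_mul] at h2
    exact (s.mem_sylow _).1 h2
  have hform : ∀ (k : ℕ) (v : ↥(Om P)), s.form (hconj k) ((τ ^ k) v) = s.form he v := by
    intro k v
    obtain ⟨w, hwA, hw⟩ := s.exists_lift v
    have hz : (g : X) ^ k * cm e (w : X) = cm e (w : X) * (g : X) ^ k :=
      s.cm_fixed he hwA (pow_mem g.2 k)
    rw [s.form_eq he hw, s.form_eq (hconj k) (w := g ^ k * w * (g ^ k)⁻¹)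
      (by rw [hτk, map_mul, map_mul, map_inv, map_pow, hw])]
    have e1 : cm ((g : X) ^ k * e * ((g : X) ^ k)⁻¹) ((g : X) ^ k * w * ((g : X) ^ k)⁻¹) =
        (g : X) ^ k * cm e (w : X) * ((g : X) ^ k)⁻¹ := by simp only [cm]; group
    simp only [Subgroup.coe_mul, InvMemClass.coe_inv, SubmonoidClass.coe_pow]
    rw [e1, hz, mul_inv_cancel_right]
  -- the kernel modulo `H`
  set U : Subgroup ↥(Om P) := H.comap (s.form he) with hU
  have hmemspan : ∀ v, s.form he v ∈ commSpan A K T := fun v => by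
    obtain ⟨a, ha, hav⟩ := s.form_mem he v
    exact hav ▸ cm_mem_commSpan he ha
  have htwo : ∀ x y, x ∈ commSpan A K T → y ∈ commSpan A K T → x ∉ H → y ∉ H → x * y ∈ H :=
    fun x y hx hy hx' hy' => mem_subgroupOf.1
      ((Subgroup.mul_mem_iff_of_index_two (H := H.subgroupOf (commSpan A K T)) hidx
        (a := ⟨x, hx⟩) (b := ⟨y, hy⟩)).2 (iff_of_false
          (fun h => hx' (mem_subgroupOf.1 h)) (fun h => hy' (mem_subgroupOf.1 h))))
  have hUtop : U ≠ ⊤ := fun h => by
    obtain ⟨a, ha, hne⟩ := hne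
    obtain ⟨v, hv⟩ := s.exists_form_eq he ha
    exact hne (hv ▸ Subgroup.mem_comap.1 (h ▸ mem_top v : v ∈ U))
  have hUbot : U ≠ ⊥ := fun h => by
    obtain ⟨v, hv⟩ := Seven.exists_ne_one s.cover.card_om
    obtain ⟨v', hv1, hv2⟩ : ∃ v' : ↥(Om P), v' ≠ 1 ∧ v' ≠ v := by
      by_contra! hno
      have hsub : (Set.univ : Set ↥(Om P)) ⊆ {1, v} := fun x _ =>
        (em (x = 1)).imp id fun hx => hno x hx
      have := (Set.ncard_le_ncard hsub (Set.toFinite _)).trans (Set.ncard_insert_le _ _)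
      rw [Set.ncard_univ, s.cover.card_om, Set.ncard_singleton] at this
      omega
    have hout : ∀ x : ↥(Om P), x ≠ 1 → s.form he x ∉ H := fun x hx hxH =>
      hx (Subgroup.mem_bot.1 (h ▸ (hxH : x ∈ U)))
    have h2 : v' * v ∈ U := by
      rw [hU, Subgroup.mem_comap, map_mul]
      exact htwo _ _ (hmemspan v') (hmemspan v) (hout v' hv1) (hout v hv)
    rw [h, Subgroup.mem_bot] at h2
    refine hv2 ?_
    rw [eq_inv_of_mul_eq_one_left h2]
    exact inv_eq_of_mul_eq_one_right (om_exponent s.cover v)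
  have hτ7 := Seven.pow_seven s.cover.card_om hτ
  -- the classes of the conjugates are different
  set S := (s.stab H).subgroupOf E with hS
  have hne1 : ∀ k : ℕ, (⟨_, hconj k⟩ : ↥E) ∉ S := fun k hk => by
    obtain ⟨a, ha, hne⟩ := hne
    obtain ⟨v, hv⟩ := s.exists_form_eq he ha
    obtain ⟨b, hb, hbv⟩ := s.form_mem (hconj k) ((τ ^ k) v)
    rw [← hv, ← hform k v, ← hbv] at hne
    exact hne ((mem_subgroupOf.1 hk).2 b hb)
  let φ : Option (Fin 7) → ↥E ⧸ S := fun o =>
    o.elim ((1 : ↥E) : ↥E ⧸ S) fun k => ((⟨_, hconj (k : ℕ)⟩ : ↥E) : ↥E ⧸ S)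
  have hφ : Function.Injective φ := by
    have hcase : ∀ i j : Fin 7, φ (some i) = φ (some j) → i = j := by
      intro i j h
      have hij := mem_subgroupOf.1 (QuotientGroup.eq.1 h)
      set d := (i : ℕ) + 7 - j with hd
      have hmove : ∀ u ∈ U, (τ ^ d) u ∈ U := by
        intro u hu
        rw [hU, Subgroup.mem_comap] at hu ⊢
        rw [← hform j]
        have hpos : (τ ^ (j : ℕ)) ((τ ^ d) u) = (τ ^ (i : ℕ)) u := by
          rw [← Seven.pow_apply_add, show (j : ℕ) + d = i + 7 by omega, pow_add, hτ7, mul_one]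
        rw [hpos]
        obtain ⟨w, hwA, hw⟩ := s.exists_lift ((τ ^ (i : ℕ)) u)
        rw [s.form_eq (hconj j) hw]
        have hi : cm ((g : X) ^ (i : ℕ) * e * ((g : X) ^ (i : ℕ))⁻¹) (w : X) ∈ H := by
          rw [← s.form_eq (hconj i) hw, hform]; exact hu
        have hij' := hij.2 _ hwA
        simp only [Subgroup.coe_mul, InvMemClass.coe_inv] at hij'
        rw [s.cm_mul (inv_mem (hconj i)) (hconj j) hwA] at hij'
        have h := s.cm_mul (inv_mem (hconj i)) (hconj i) hwA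
        rw [inv_mul_cancel, show cm 1 (w : X) = (1 : X) by simp [cm]] at h
        rw [eq_inv_of_mul_eq_one_left h.symm] at hij'
        exact (Subgroup.mul_mem_cancel_left _ (inv_mem hi)).1 hij'
      have h7 := Seven.dvd_of_map_eq s.cover.card_om hτ hUbot hUtop hmove
      omega
    intro o o' h
    rcases o with _ | i <;> rcases o' with _ | j
    · rfl
    · exact absurd (by simpa using QuotientGroup.eq.1 h) (hne1 j)
    · exact absurd (by simpa using QuotientGroup.eq.1 h.symm) (hne1 i)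
    · rw [hcase i j h]
  have h8 : 8 ≤ (s.stab H).relIndex E := by
    have h := Nat.card_le_card_of_injective φ hφ
    rw [Nat.card_eq_fintype_card, Fintype.card_option, Fintype.card_fin] at h
    exact h
  have hC : centralizer (A : Set X) ⊓ E ≤ s.stab H := fun x hx => ⟨hx.2, fun a ha => by
    simp only [cm, ← mem_centralizer_iff.1 hx.1 a ha, mul_inv_cancel_right, mul_inv_cancel]
    exact one_mem H⟩
  have h8' := s.relIndex_centralizer_le
  have hmul := Subgroup.relIndex_mul_relIndex (centralizer (A : Set X) ⊓ E) (s.stab H) E hC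
    fun x hx => hx.1
  rw [Subgroup.inf_relIndex_right] at hmul
  have hpos : (centralizer (A : Set X)).relIndex E ≠ 0 :=
    Subgroup.index_ne_zero_of_finite (H := (centralizer (A : Set X)).subgroupOf E)
  have hone : (centralizer (A : Set X) ⊓ E).relIndex (s.stab H) = 1 := by
    have h0 : (centralizer (A : Set X) ⊓ E).relIndex (s.stab H) ≠ 0 := fun h0 => hpos (by
      rw [← hmul, h0, zero_mul])
    have hle := (Nat.mul_le_mul_left _ h8).trans (hmul.le.trans h8')
    omega
  refine ⟨fun x hx => (Subgroup.relIndex_eq_one.1 hone hx).1, ?_⟩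
  rw [← hmul, hone, one_mul]
  omega

/-- A proper subgroup of the span lies in one of index two. -/
theorem exists_index_two {R : Subgroup X} (hR : R ≤ commSpan A K T)
    (hne : ¬ commSpan A K T ≤ R) :
    ∃ H : Subgroup X, R ≤ H ∧ H ≤ commSpan A K T ∧ H.relIndex (commSpan A K T) = 2 := by
  haveI : Fact (Nat.Prime 2) := ⟨Nat.prime_two⟩
  set Z₁ := commSpan A K T
  have hp : IsPGroup 2 ↥Z₁ := (PGroups.elemAb_isPGroup s.elem).to_le (s.commSpan_le.trans inf_le_left)
  obtain ⟨n, hn⟩ := IsPGroup.iff_card.1 hp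
  obtain ⟨m, hm⟩ := IsPGroup.iff_card.1 (hp.to_subgroup (R.subgroupOf Z₁))
  have hmn : m < n := by
    by_contra hle
    refine hne (subgroupOf_eq_top.1 (Subgroup.eq_top_of_card_eq _ (le_antisymm
      (Subgroup.card_le_card_group _) ?_)))
    rw [hn, hm]
    exact Nat.pow_le_pow_right two_pos (not_lt.1 hle)
  obtain ⟨k, rfl⟩ : ∃ j, n = j + 1 := Nat.exists_eq_succ_of_ne_zero (by omega)
  obtain ⟨M, hM, hRM⟩ := Sylow.exists_subgroup_card_pow_prime_le 2 (m := k)
    (by rw [hn]; exact pow_dvd_pow 2 k.le_succ) (R.subgroupOf Z₁) hm (by omega)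
  refine ⟨M.map Z₁.subtype, fun x hx => ⟨⟨x, hR hx⟩, hRM (mem_subgroupOf.2 hx), rfl⟩,
    Subgroup.map_subtype_le M, ?_⟩
  rw [Subgroup.relIndex, show (M.map Z₁.subtype).subgroupOf Z₁ = M from
    Subgroup.comap_map_eq_self_of_injective Z₁.subtype_injective M]
  have h := Subgroup.index_mul_card M
  rw [hM, hn, pow_succ, mul_comm M.index] at h
  exact Nat.eq_of_mul_eq_mul_left (pow_pos two_pos k) h

/-- An element not centralising `A` has all of the span as commutators. -/
theorem commSpan_le_range {e : X} (he : e ∈ (T : Subgroup X) ⊓ K)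
    (hec : e ∉ centralizer (A : Set X)) : commSpan A K T ≤ (s.form he).range := by
  by_contra hne
  have hR : (s.form he).range ≤ commSpan A K T := by
    rintro _ ⟨v, rfl⟩
    obtain ⟨a, ha, hav⟩ := s.form_mem he v
    exact hav ▸ cm_mem_commSpan he ha
  obtain ⟨H, hRH, -, hidx⟩ := s.exists_index_two hR hne
  refine hec ((s.stab_eq hidx).1 ⟨he, fun a ha => ?_⟩)
  obtain ⟨v, hv⟩ := s.exists_form_eq he ha
  exact hRH ⟨v, hv⟩

/-- The action on `A` of `E = T ∩ K`. -/
theorem exists_action :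
    ∃ Z₁ : Subgroup X, Z₁ ≠ ⊥ ∧ Z₁ ≤ A ⊓ centralizer (K : Set X) ∧ Nat.card Z₁ ≤ 4 ∧
      4 < (centralizer (A : Set X)).relIndex ((T : Subgroup X) ⊓ K) ∧
      ∀ e ∈ (T : Subgroup X) ⊓ K, (∀ a ∈ A, e * a * e⁻¹ ∈ A ∧ cm e a ∈ Z₁) ∧
        (∀ a ∈ A, e * e * a * (e * e)⁻¹ = a) ∧
        (e ∉ centralizer (A : Set X) → ∀ z ∈ Z₁, ∃ a ∈ A, cm e a = z) := by
  have hne := s.commSpan_ne_bot
  obtain ⟨H, -, -, hidx⟩ := s.exists_index_two bot_le fun h => hne (le_bot_iff.1 h)
  obtain ⟨-, hbig⟩ := s.stab_eq hidx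
  obtain ⟨e, he, hec⟩ : ∃ e ∈ (T : Subgroup X) ⊓ K, e ∉ centralizer (A : Set X) := by
    by_contra! hall
    rw [Subgroup.relIndex_eq_one.2 hall] at hbig
    omega
  refine ⟨commSpan A K T, hne, s.commSpan_le.trans (inf_le_inf le_rfl ?_), ?_, hbig,
    fun e he => ⟨fun a ha => ⟨s.normalizes he.1 ha, cm_mem_commSpan he ha⟩,
      fun a ha => s.sq he ha, fun hec z hz => ?_⟩⟩
  · rintro _ ⟨z, hz, rfl⟩
    exact mem_centralizer_of_mem_center hz
  · exact (Nat.le_of_dvd Nat.card_pos (card_dvd_of_le (s.commSpan_le_range he hec))).trans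
      (s.card_form_le he)
  · obtain ⟨v, rfl⟩ := s.commSpan_le_range he hec hz
    exact s.form_mem he v

end Setup

end Cfsg.Agent.Lib.Goldschmidt53.NoCover
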