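import Cfsg.Agent.Lib.Fg6.FourGroupConj

/-!
# Automorphisms of a group of order 8 with a transitive cyclic group

Used for the section `PropNoCover`: an involution normalising a group of odd order of automorphisms
which contains an element transitive on the seven non-trivial elements is trivial.
Owner: helper1.
-/

set_option autoImplicit false
set_option linter.style.haveILetI false

namespace Cfsg.Agent.Lib.Goldschmidt53.NoCover.Seven

variable {V : Type*} [Group V] [Finite V]

/-- `τ` is transitive on the non-trivial elements. -/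
def Trans (τ : MulAut V) : Prop :=
  ∀ x : V, x ≠ 1 → ∀ y : V, y ≠ 1 → ∃ k : ℕ, (τ ^ k) x = y

variable {τ : MulAut V}

omit [Finite V] in
theorem pow_apply_add (i j : ℕ) (x : V) : (τ ^ (i + j)) x = (τ ^ i) ((τ ^ j) x) := by
  rw [pow_add]; rfl

omit [Finite V] in
theorem fix_mul {i : ℕ} {x : V} (h : (τ ^ i) x = x) (q : ℕ) : (τ ^ (i * q)) x = x := by
  induction q with
  | zero => simp
  | succ q ih => rw [Nat.mul_succ, pow_apply_add, h, ih]

theorem seven_le (hcard : Nat.card V = 8) (hτ : Trans τ) {x : V} (hx : x ≠ 1) {p : ℕ} (hp : 0 < p)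
    (hfix : (τ ^ p) x = x) : 7 ≤ p := by
  have hsub : ({1}ᶜ : Set V) ⊆ (fun i : ℕ => (τ ^ i) x) '' Set.Iio p := by
    intro y hy
    obtain ⟨k, rfl⟩ := hτ x hx y hy
    refine ⟨k % p, Nat.mod_lt k hp, ?_⟩
    show (τ ^ (k % p)) x = (τ ^ k) x
    conv_rhs => rw [← Nat.mod_add_div k p, pow_apply_add, fix_mul hfix]
  have h1 := (Set.ncard_le_ncard hsub ((Set.finite_Iio p).image _)).trans
    (Set.ncard_image_le (Set.finite_Iio p))
  have h2 : Set.ncard (Set.Iio p) = p := by
    rw [← Finset.coe_Iio, Set.ncard_coe_finset, Nat.card_Iio]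
  rw [Set.ncard_compl, Set.ncard_singleton, hcard, h2] at h1
  omega

theorem exists_period (hcard : Nat.card V = 8) (hτ : Trans τ) {x : V} (hx : x ≠ 1) :
    (τ ^ 7) x = x := by
  classical
  haveI : Fintype V := Fintype.ofFinite V
  let f : Fin 8 → {y : V // y ≠ 1} := fun i =>
    ⟨(τ ^ (i : ℕ)) x, fun h => hx ((τ ^ (i : ℕ)).injective (h.trans (map_one _).symm))⟩
  have hlt : Fintype.card {y : V // y ≠ 1} < Fintype.card (Fin 8) := by
    rw [Fintype.card_fin, Fintype.card_subtype_compl, Fintype.card_subtype_eq,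
      ← Nat.card_eq_fintype_card, hcard]
    norm_num
  obtain ⟨i, j, hij, he⟩ := Fintype.exists_ne_map_eq_of_card_lt f hlt
  have key : ∀ i j : Fin 8, (i : ℕ) < j → f i = f j → (τ ^ 7) x = x := by
    intro i j hlt he
    have he' : (τ ^ (i : ℕ)) x = (τ ^ (j : ℕ)) x := congrArg Subtype.val he
    have hfix : (τ ^ ((j : ℕ) - i)) x = x := by
      apply (τ ^ (i : ℕ)).injective
      rw [← pow_apply_add, Nat.add_sub_cancel' hlt.le, he']
    have h7 := seven_le hcard hτ hx (Nat.sub_pos_of_lt hlt) hfix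
    have h8 := j.2
    rwa [show (j : ℕ) - i = 7 by omega] at hfix
  rcases lt_or_gt_of_ne (fun h => hij (Fin.ext h) : (i : ℕ) ≠ j) with h | h
  · exact key i j h he
  · exact key j i h he.symm

theorem pow_seven (hcard : Nat.card V = 8) (hτ : Trans τ) : τ ^ 7 = 1 := by
  refine MulEquiv.ext fun x => ?_
  by_cases hx : x = 1
  · rw [hx, map_one, map_one]
  · exact exists_period hcard hτ hx

theorem dvd_of_fix (hcard : Nat.card V = 8) (hτ : Trans τ) {x : V} (hx : x ≠ 1) {i : ℕ}
    (hfix : (τ ^ i) x = x) : 7 ∣ i := by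
  by_contra h
  have h7 := exists_period hcard hτ hx
  have hmod : (τ ^ (i % 7)) x = x := by
    conv_rhs => rw [← hfix, ← Nat.mod_add_div i 7, pow_apply_add, fix_mul h7]
  have h1 := seven_le hcard hτ hx (by omega) hmod
  omega

omit [Finite V] in
theorem exists_ne_one (hcard : Nat.card V = 8) : ∃ v : V, v ≠ 1 := by
  by_contra h
  push Not at h
  haveI : Subsingleton V := ⟨fun a b => (h a).trans (h b).symm⟩
  rw [Nat.card_of_subsingleton (1 : V)] at hcard
  omega

theorem orderOf_eq (hcard : Nat.card V = 8) (hτ : Trans τ) : orderOf τ = 7 := by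
  haveI : Fact (Nat.Prime 7) := ⟨by norm_num⟩
  refine orderOf_eq_prime (pow_seven hcard hτ) fun h => ?_
  obtain ⟨v, hv⟩ := exists_ne_one hcard
  have := dvd_of_fix hcard hτ hv (i := 1) (by rw [pow_one, h]; rfl)
  omega

/-- A proper non-trivial subgroup is moved by the powers of `τ`. -/
theorem dvd_of_map_eq (hcard : Nat.card V = 8) (hτ : Trans τ) {U : Subgroup V} (hbot : U ≠ ⊥)
    (htop : U ≠ ⊤) {i : ℕ} (h : ∀ u ∈ U, (τ ^ i) u ∈ U) : 7 ∣ i := by
  by_contra hi
  obtain ⟨j, hj⟩ : ∃ j, i * j % 7 = 1 := by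
    have h6 : i % 7 < 7 := Nat.mod_lt _ (by norm_num)
    have h0 : i % 7 ≠ 0 := fun h0 => hi (Nat.dvd_of_mod_eq_zero h0)
    rcases (by omega : i % 7 = 1 ∨ i % 7 = 2 ∨ i % 7 = 3 ∨ i % 7 = 4 ∨ i % 7 = 5 ∨ i % 7 = 6) with
      h' | h' | h' | h' | h' | h'
    · exact ⟨1, by omega⟩
    · exact ⟨4, by omega⟩
    · exact ⟨5, by omega⟩
    · exact ⟨2, by omega⟩
    · exact ⟨3, by omega⟩
    · exact ⟨6, by omega⟩
  have h1 : ∀ u ∈ U, τ u ∈ U := by
    have hpow : ∀ q : ℕ, ∀ u ∈ U, (τ ^ (i * q)) u ∈ U := by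
      intro q
      induction q with
      | zero => intro u hu; simpa using hu
      | succ q ih => intro u hu; rw [Nat.mul_succ, pow_apply_add]; exact ih _ (h u hu)
    intro u hu
    have he : τ ^ (i * j) = τ := by
      rw [← Nat.mod_add_div (i * j) 7, pow_add, pow_mul, pow_seven hcard hτ, one_pow, mul_one, hj,
        pow_one]
    simpa [he] using hpow j u hu
  have hn : ∀ k : ℕ, ∀ u ∈ U, (τ ^ k) u ∈ U := by
    intro k
    induction k with
    | zero => intro u hu; simpa using hu
    | succ k ih => intro u hu; rw [pow_apply_add, pow_one]; exact ih _ (h1 u hu)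
  obtain ⟨⟨u, huU⟩, hu'⟩ := Subgroup.ne_bot_iff_exists_ne_one.1 hbot
  have hu : u ≠ 1 := fun e => hu' (Subtype.ext e)
  refine htop ((Subgroup.eq_top_iff' U).2 fun y => ?_)
  by_cases hy : y = 1
  · exact hy ▸ one_mem _
  · obtain ⟨k, rfl⟩ := hτ u hu y hy
    exact hn k u huU

/-- An involution normalising a group of odd order containing `τ` is trivial. -/
theorem eq_one_of_normalizes (hcard : Nat.card V = 8) (hexp : ∀ x : V, x * x = 1) (hτ : Trans τ)
    {H : Subgroup (MulAut V)} (hodd : Odd (Nat.card H)) (hτH : τ ∈ H) {a : MulAut V}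
    (hnorm : ∀ σ ∈ H, a * σ * a⁻¹ ∈ H) (ha2 : a * a = 1) : a = 1 := by
  haveI : Fact (Nat.Prime 7) := ⟨by norm_num⟩
  have hinv : ∀ x : V, x⁻¹ = x := fun x => inv_eq_of_mul_eq_one_right (hexp x)
  have hcomm : ∀ x y : V, x * y = y * x := fun x y => by
    rw [← hinv (x * y), mul_inv_rev, hinv, hinv]
  have ho := orderOf_eq hcard hτ
  have h7 := pow_seven hcard hτ
  haveI : Finite (MulAut V) := Finite.of_injective (fun f : MulAut V => (⇑f : V → V))
    fun f g h => MulEquiv.ext (congrFun h)
  -- `a` normalises `⟨τ⟩`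
  have hmem : a * τ * a⁻¹ ∈ Subgroup.zpowers τ := by
    by_contra hnot
    set σ := a * τ * a⁻¹ with hσ
    have hoσ : orderOf σ = 7 := (orderOf_injective (MulAut.conj a).toMonoidHom
      (MulAut.conj a).injective τ).trans ho
    have hdisj : Disjoint (Subgroup.zpowers σ) (Subgroup.zpowers τ) := by
      rw [disjoint_iff, Subgroup.eq_bot_iff_forall]
      intro x hx
      by_contra hx1
      have hle : ∀ ρ : MulAut V, orderOf ρ = 7 → x ∈ Subgroup.zpowers ρ →
          Subgroup.zpowers x = Subgroup.zpowers ρ := by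
        intro ρ hρ hxρ
        refine Subgroup.eq_of_le_of_card_ge (Subgroup.zpowers_le.2 hxρ) ?_
        rw [Nat.card_zpowers, Nat.card_zpowers, hρ]
        have hd : orderOf x ∣ 7 := hρ ▸ orderOf_dvd_of_mem_zpowers hxρ
        rcases (Nat.dvd_prime (by norm_num)).1 hd with h | h
        · exact absurd (orderOf_eq_one_iff.1 h) hx1
        · omega
      exact hnot ((hle τ ho hx.2) ▸ (hle σ hoσ hx.1).symm ▸ Subgroup.mem_zpowers σ)
    have hinj := Subgroup.mul_injective_of_disjoint hdisj
    have h49 : 49 ≤ Nat.card H := by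
      have h := Nat.card_le_card_of_injective
        (fun p : Subgroup.zpowers σ × Subgroup.zpowers τ =>
          (⟨(p.1 : MulAut V) * p.2, H.mul_mem (Subgroup.zpowers_le.2 (hnorm τ hτH) p.1.2)
            (Subgroup.zpowers_le.2 hτH p.2.2)⟩ : H))
        fun p q h => hinj (congrArg Subtype.val h)
      rwa [Nat.card_prod, Nat.card_zpowers, Nat.card_zpowers, hoσ, ho] at h
    letI : CommGroup V := { (inferInstance : Group V) with mul_comm := hcomm }
    have hd := Fg6.FourGroupConj.card_mulAut_dvd (p := 2) (Q := V)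
      (fun q => by rw [pow_two]; exact hexp q) (k := 3) (by rw [hcard]; norm_num)
    have h168 : Nat.card (GL (Fin 3) (ZMod 2)) = 168 := by
      rw [Matrix.card_GL_field, ZMod.card]
      decide
    have h21 : Nat.card H ∣ 21 := by
      refine (show (Nat.card H).Coprime 8 from ?_).dvd_of_dvd_mul_left (n := 21) ?_
      · rw [show (8 : ℕ) = 2 ^ 3 by norm_num]
        exact (Nat.coprime_two_right.2 hodd).pow_right 3
      · exact (Subgroup.card_subgroup_dvd_card H).trans (by rw [h168] at hd; exact hd)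
    have := Nat.le_of_dvd (by norm_num) h21
    omega
  obtain ⟨j, hj⟩ := mem_powers_iff_mem_zpowers.2 hmem
  have hj' : a * τ * a⁻¹ = τ ^ j := hj.symm
  have ha : a⁻¹ = a := inv_eq_of_mul_eq_one_right ha2
  have hjj : τ ^ (j * j) = τ ^ 1 := by
    rw [pow_mul, ← hj', conj_pow, ← hj', ha, pow_one]
    calc a * (a * τ * a) * a = (a * a) * τ * (a * a) := by group
      _ = τ := by rw [ha2, one_mul, mul_one]
  rw [pow_eq_pow_iff_modEq, ho] at hjj
  have hj16 : j % 7 = 1 ∨ j % 7 = 6 := by
    have h : j % 7 * (j % 7) % 7 = 1 := by rw [← Nat.mul_mod]; exact hjj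
    have : j % 7 < 7 := Nat.mod_lt _ (by norm_num)
    rcases (by omega : j % 7 = 0 ∨ j % 7 = 1 ∨ j % 7 = 2 ∨ j % 7 = 3 ∨ j % 7 = 4 ∨ j % 7 = 5 ∨
      j % 7 = 6) with h' | h' | h' | h' | h' | h' | h' <;> rw [h'] at h <;> omega
  obtain ⟨v, hv⟩ := exists_ne_one hcard
  have hav : a v ≠ 1 := fun h => hv (a.injective (h.trans (map_one a).symm))
  obtain ⟨c, hc⟩ := hτ v hv (a v) hav
  have hstep : ∀ (i : ℕ) (x : V), a ((τ ^ i) x) = (τ ^ (j % 7 * i)) (a x) := by
    intro i x
    have h : a * τ ^ i = τ ^ (j % 7 * i) * a := by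
      rw [pow_mul, ← ho, pow_mod_orderOf, ← hj', conj_pow]
      group
    exact DFunLike.congr_fun h x
  rcases hj16 with h1 | h6
  · -- `a` commutes with `τ`
    have hfix : a v = v := by
      have haa : a (a v) = v := DFunLike.congr_fun ha2 v
      rw [← hc, hstep, h1, one_mul, ← hc, ← pow_apply_add] at haa
      obtain ⟨d, rfl⟩ : 7 ∣ c := by have := dvd_of_fix hcard hτ hv haa; omega
      rw [← hc]
      exact fix_mul (exists_period hcard hτ hv) d
    refine MulEquiv.ext fun y => ?_
    by_cases hy : y = 1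
    · rw [hy, map_one, map_one]
    · obtain ⟨k, rfl⟩ := hτ v hv y hy
      rw [hstep, h1, one_mul, hfix]
      rfl
  · -- `a` inverts `τ`: impossible
    exfalso
    have hτv : τ v ≠ v := fun h => by
      have := dvd_of_fix hcard hτ hv (i := 1) (by rw [pow_one]; exact h)
      omega
    obtain ⟨k, hk⟩ := hτ v hv (v * τ v) fun h =>
      hτv (by rw [← inv_eq_of_mul_eq_one_right h, hinv])
    set u := a v with hu
    have hw1 : u * (τ ^ 6) u = (τ ^ (6 * k)) u := by
      have h := congrArg a hk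
      rw [map_mul, hstep, h6] at h
      have h' := hstep 1 v
      rw [h6, pow_one, mul_one] at h'
      rw [h'] at h
      exact h.symm
    have hw2 : u * τ u = (τ ^ k) u := by
      rw [← hc, ← pow_apply_add, Nat.add_comm, pow_apply_add, hk, map_mul]
      congr 1
      exact DFunLike.congr_fun (Commute.self_pow τ c).eq v
    have hw3 : (τ ^ (1 + 6 * k)) u = (τ ^ k) u := by
      rw [pow_apply_add, pow_one, ← hw1, map_mul]
      conv_rhs => rw [← hw2, hcomm]
      congr 1
      have := pow_apply_add (τ := τ) 1 6 u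
      rw [pow_one] at this
      rw [← this, h7]
      rfl
    have hk4 : k % 7 = 4 := by
      have h : (τ ^ (1 + 6 * k + 6 * k)) u = u := by
        rw [Nat.add_comm, pow_apply_add, hw3, ← pow_apply_add,
          show 6 * k + k = 7 * k by ring]
        exact fix_mul (exists_period hcard hτ hav) k
      have := dvd_of_fix hcard hτ hav h
      omega
    have h4 : (τ ^ 4) v = v * τ v := by
      rw [← hk, ← hk4]
      conv_rhs => rw [← Nat.mod_add_div k 7, pow_apply_add,
        fix_mul (exists_period hcard hτ hv)]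
    have h5 : (τ ^ 5) v = v := by
      have e1 : τ v = (τ ^ 4) v * (τ ^ 5) v := by
        rw [show (τ ^ 5) v = (τ ^ 4) (τ v) by rw [pow_succ]; rfl, ← map_mul, ← h4,
          ← pow_apply_add, show 4 + 4 = 1 + 7 by norm_num, pow_apply_add, pow_one,
          exists_period hcard hτ hv]
      have e2 : τ v = (τ ^ 4) v * v := by rw [h4, hcomm v (τ v), mul_assoc, hexp, mul_one]
      exact mul_left_cancel (e1.symm.trans e2)
    have := dvd_of_fix hcard hτ hv h5
    omega

end Cfsg.Agent.Lib.Goldschmidt53.NoCover.Seven
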