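import Cfsg.Agent.Lib.Goldschmidt53.NoCover.Cover
import Cfsg.Agent.Lib.Goldschmidt53.NoCover.Seven
import Cfsg.Agent.Lib.PGroups.Omega

/-!
# Elements of `N(A)` acting with small commutator group

If `n ∈ N(A)` has square centralising `A` and `|[A, n]| ≤ 4`, then `[A, n]` centralises every moved
component with non-trivial centre (`rule`).
Owner: helper1.
-/

set_option autoImplicit false
set_option linter.style.haveILetI false

universe u

namespace Cfsg.Agent.Lib.Goldschmidt53.NoCover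

open Subgroup Cfsg.Agent.Lib.Components

variable {X : Type u} [Group X]

theorem conj_normalizer {H : Subgroup X} {n x : X} (hn : n ∈ normalizer (H : Set X)) (hx : x ∈ H) :
    n * x * n⁻¹ ∈ H := (Subgroup.mem_normalizer_iff.1 hn x).1 hx

theorem mem_center_of_mem_centralizer {K : Subgroup X} {x : ↥K}
    (hx : (x : X) ∈ centralizer (K : Set X)) : x ∈ Subgroup.center ↥K :=
  Subgroup.mem_center_iff.2 fun y => Subtype.ext (mem_centralizer_iff.1 hx _ y.2)

theorem mem_centralizer_of_mem_center {K : Subgroup X} {x : ↥K} (hx : x ∈ Subgroup.center ↥K) :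
    (x : X) ∈ centralizer (K : Set X) :=
  mem_centralizer_iff.2 fun y hy => congrArg Subtype.val (Subgroup.mem_center_iff.1 hx ⟨y, hy⟩)

variable [Finite X]

/-- An element of `A` acts on a component as an element of `A` inside it. -/
theorem exists_split {A : Subgroup X} (hD : Decomp A) {K : Subgroup X} (hK : Cfsg.IsComponent K)
    {a : X} (ha : a ∈ A) : ∃ w ∈ A ⊓ K, w⁻¹ * a ∈ centralizer (K : Set X) := by
  haveI : Fact (Nat.Prime 2) := ⟨Nat.prime_two⟩
  set C := centralizer (K : Set X)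
  have hRC : A ⊓ K ≤ normalizer (C : Set X) :=
    inf_le_right.trans (le_normalizer.trans (Balance.normalizer_le_normalizer_centralizer K))
  have hle : A ≤ (A ⊓ K) ⊔ C := by
    refine hD.split.trans (sup_le ((inf_le_right.trans ((Cores.pCore_le_fittingSubgroup 2).trans
      (Component.fittingSubgroup_le_centralizer hK))).trans le_sup_right) (iSup_le fun K' => ?_))
    rcases eq_or_ne K'.1 K with he | he
    · rw [he]; exact le_sup_left
    · exact inf_le_right.trans ((Component.le_centralizer_of_ne K'.2 hK he).trans le_sup_right)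
  have ha' : a ∈ ((A ⊓ K ⊔ C : Subgroup X) : Set X) := hle ha
  rw [Subgroup.coe_mul_of_left_le_normalizer_right _ _ hRC] at ha'
  obtain ⟨w, hw, c, hc, rfl⟩ := ha'
  exact ⟨w, hw, by simpa using hc⟩

variable {A K : Subgroup X} {P : Sylow 2 (↥K ⧸ Subgroup.center ↥K)}

/-- An element of `N(A)` with small commutator group on `A` normalises the component. -/
theorem mem_normalizer_component (hc : IsCover A K P) {n : X}
    {Z' : Subgroup X} (hZ' : Nat.card Z' ≤ 4)
    (hcomm : ∀ a ∈ A, n * a * n⁻¹ * a⁻¹ ∈ Z') : n ∈ normalizer (K : Set X) := by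
  by_contra hnot
  set K' := K.map (MulAut.conj n).toMonoidHom
  have hne : K' ≠ K := fun he => hnot (mem_normalizer_iff_map_conj_eq.2 he)
  have hcen := Component.le_centralizer_of_ne (Component.conj hc.comp n) hc.comp hne
  choose w hwA hwv using fun v : ↥(Om P) => exists_lift_om hc.om v.2
  let f : ↥(Om P) → ↥Z' := fun v => ⟨_, hcomm _ (hwA v)⟩
  have hinj : Function.Injective f := by
    intro v v' h
    have h' : n * (w v : X) * n⁻¹ * (w v : X)⁻¹ = n * (w v' : X) * n⁻¹ * (w v' : X)⁻¹ :=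
      congrArg Subtype.val h
    set u : ↥K := (w v)⁻¹ * w v' with hu
    have hfix : n * (u : X) * n⁻¹ = u := by
      have h1 : n * (w v' : X) * n⁻¹ = n * (w v : X) * n⁻¹ * ((w v : X)⁻¹ * w v') := by
        rw [← mul_assoc, h']; group
      rw [hu, Subgroup.coe_mul, InvMemClass.coe_inv]
      calc n * ((w v : X)⁻¹ * w v') * n⁻¹
          = (n * (w v : X) * n⁻¹)⁻¹ * (n * (w v' : X) * n⁻¹) := by group
        _ = _ := by rw [h1, inv_mul_cancel_left]
    have huc : u ∈ Subgroup.center ↥K :=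
      mem_center_of_mem_centralizer (hcen ⟨(u : X), u.2, hfix⟩)
    apply Subtype.ext
    rw [← hwv v, ← hwv v']
    exact QuotientGroup.eq.2 huc
  have h := Nat.card_le_card_of_injective f hinj
  rw [hc.card_om] at h
  omega

omit [Finite X] in
theorem om_exponent (hc : IsCover A K P) (v : ↥(Om P)) : v * v = 1 :=
  Subtype.ext (by rw [Subgroup.coe_mul, ← pow_two]; exact (hc.facts.omega_elementary P).2 v v.2)

omit [Finite X] in
theorem sylow_le_normalizer_om (hc : IsCover A K P) :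
    (P : Subgroup (↥K ⧸ Subgroup.center ↥K)) ≤ centralizer (Om P : Set (↥K ⧸ Subgroup.center ↥K)) :=
  fun y hy => mem_centralizer_iff.2 fun x hx => hc.facts.omega_central P x hx y hy

omit [Finite X] in
theorem normalizer_sylow_le (P : Sylow 2 (↥K ⧸ Subgroup.center ↥K)) :
    normalizer ((P : Subgroup (↥K ⧸ Subgroup.center ↥K)) : Set (↥K ⧸ Subgroup.center ↥K)) ≤
      normalizer (Om P : Set (↥K ⧸ Subgroup.center ↥K)) := by
  intro g hg
  refine mem_normalizer_iff_map_conj_eq.2 ?_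
  rw [PGroups.map_omegaOne_of_injective _ (MulAut.conj g).injective,
    mem_normalizer_iff_map_conj_eq.1 hg]

/-- The rule. -/
theorem rule (hD : Decomp A) (hc : IsCover A K P) {n : X}
    (hn : n ∈ normalizer (A : Set X)) (hsq : ∀ a ∈ A, n * n * a * (n * n)⁻¹ = a) {Z' : Subgroup X}
    (hZ' : Nat.card Z' ≤ 4) (hcomm : ∀ a ∈ A, n * a * n⁻¹ * a⁻¹ ∈ Z') {a : X} (ha : a ∈ A) :
    n * a * n⁻¹ * a⁻¹ ∈ centralizer (K : Set X) := by
  classical
  haveI : Fact (Nat.Prime 2) := ⟨Nat.prime_two⟩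
  have hnK := mem_normalizer_component hc hZ' hcomm
  let β : MulAut ↥K := K.normalizerMonoidHom ⟨n, hnK⟩
  have hβ : ∀ x : ↥K, ((β x : ↥K) : X) = n * x * n⁻¹ := fun x => rfl
  set Z := Subgroup.center ↥K with hZdef
  let α : MulAut (↥K ⧸ Z) :=
    QuotientGroup.congr Z Z β (Subgroup.characteristic_iff_map_eq.1 inferInstance β)
  have hα : ∀ x : ↥K, α (q K x) = q K (β x) := fun x => rfl
  have hαOm : ∀ v ∈ Om P, α v ∈ Om P := by
    intro v hv
    obtain ⟨w, hwA, rfl⟩ := exists_lift_om hc.om hv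
    rw [hα, ← hc.om]
    exact mem_map_of_mem _ (mem_subgroupOf.2 (conj_normalizer hn hwA : n * (w : X) * n⁻¹ ∈ A))
  have hαmap : (Om P).map (α : (↥K ⧸ Z) →* (↥K ⧸ Z)) = Om P :=
    Subgroup.eq_of_le_of_card_ge (by rintro _ ⟨v, hv, rfl⟩; exact hαOm v hv)
      (Subgroup.card_map_of_injective α.injective).ge
  let a₀ : MulAut ↥(Om P) := (α.subgroupMap (Om P)).trans (MulEquiv.subgroupCongr hαmap)
  have ha₀ : ∀ v : ↥(Om P), ((a₀ v : ↥(Om P)) : ↥K ⧸ Z) = α v := fun v => rfl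
  have ha2 : a₀ * a₀ = 1 := by
    refine MulEquiv.ext fun v => Subtype.ext ?_
    show ((a₀ (a₀ v) : ↥(Om P)) : ↥K ⧸ Z) = v
    rw [ha₀, ha₀]
    obtain ⟨w, hwA, hw⟩ := exists_lift_om hc.om v.2
    rw [← hw, hα, hα]
    refine congrArg (q K) (Subtype.ext ?_)
    rw [hβ, hβ]
    calc n * (n * (w : X) * n⁻¹) * n⁻¹ = n * n * w * (n * n)⁻¹ := by group
      _ = w := hsq _ hwA
  set N := normalizer (Om P : Set (↥K ⧸ Z)) with hN
  let ρ : ↥N →* MulAut ↥(Om P) := (Om P).normalizerMonoidHom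
  have hρ : ∀ (g : ↥N) (v : ↥(Om P)),
      ((ρ g v : ↥(Om P)) : ↥K ⧸ Z) = (g : ↥K ⧸ Z) * v * (g : ↥K ⧸ Z)⁻¹ := fun g v => rfl
  have hPN : (P : Subgroup (↥K ⧸ Z)) ≤ N :=
    (sylow_le_normalizer_om hc).trans (centralizer_le_normalizer _)
  have hodd : Odd (Nat.card ρ.range) := by
    have hker : (P : Subgroup (↥K ⧸ Z)).subgroupOf N ≤ ρ.ker := fun g hg =>
      MonoidHom.mem_ker.2 (MulEquiv.ext fun v => Subtype.ext (by
        rw [hρ, MulAut.one_apply,
          ← mem_centralizer_iff.1 (sylow_le_normalizer_om hc (mem_subgroupOf.1 hg)) _ v.2,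
          mul_inv_cancel_right]))
    have h1 : Nat.card ρ.range ∣ (P : Subgroup (↥K ⧸ Z)).index := by
      rw [← Subgroup.index_ker]
      exact (index_dvd_of_le hker).trans (relIndex_dvd_index_of_le hPN)
    rw [← Nat.not_even_iff_odd, even_iff_two_dvd]
    exact fun h => P.not_dvd_index (h.trans h1)
  obtain ⟨t, ht, -, htr⟩ := hc.facts.torus P
  have htN : t ∈ N := normalizer_sylow_le P ht
  have hτ : Seven.Trans (ρ ⟨t, htN⟩) := by
    intro x hx y hy
    obtain ⟨k, hk⟩ := htr x x.2 (fun h => hx (Subtype.ext h)) y y.2 (fun h => hy (Subtype.ext h))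
    refine ⟨k, ?_⟩
    rw [← map_pow]
    exact Subtype.ext (by rw [hρ, SubmonoidClass.coe_pow]; exact hk)
  have hnorm : ∀ σ ∈ ρ.range, a₀ * σ * a₀⁻¹ ∈ ρ.range := by
    rintro _ ⟨g, rfl⟩
    have hg : α g ∈ N := by
      refine Subgroup.mem_normalizer_iff.2 fun x => ?_
      obtain ⟨x, rfl⟩ := α.surjective x
      rw [← map_inv, ← map_mul, ← map_mul]
      have hiff : ∀ y, α y ∈ Om P ↔ y ∈ Om P := fun y => ⟨fun h => by
        rw [← hαmap] at h
        obtain ⟨z, hz, hzy⟩ := h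
        rwa [← α.injective hzy], hαOm y⟩
      rw [hiff, hiff]
      exact Subgroup.mem_normalizer_iff.1 g.2 x
    refine ⟨⟨α g, hg⟩, eq_mul_inv_of_mul_eq (MulEquiv.ext fun v => Subtype.ext ?_)⟩
    show ((ρ ⟨α g, hg⟩ (a₀ v) : ↥(Om P)) : ↥K ⧸ Z) = ((a₀ (ρ g v) : ↥(Om P)) : ↥K ⧸ Z)
    rw [hρ, ha₀, ha₀, hρ, map_mul, map_mul, map_inv]
  have hone := Seven.eq_one_of_normalizes hc.card_om (om_exponent hc) hτ hodd
    ⟨_, rfl⟩ hnorm ha2
  obtain ⟨w, hw, hwc⟩ := exists_split hD hc.comp ha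
  set C := centralizer (K : Set X)
  have hwK : w ∈ normalizer (C : Set X) :=
    Balance.normalizer_le_normalizer_centralizer K (le_normalizer hw.2)
  have hnC : n ∈ normalizer (C : Set X) := Balance.normalizer_le_normalizer_centralizer K hnK
  have h1 : n * w * n⁻¹ * w⁻¹ ∈ C := by
    have hmem : q K ⟨w, hw.2⟩ ∈ Om P := hc.om ▸ mem_map_of_mem _ (mem_subgroupOf.2 hw.1)
    have h := congrArg (fun v : ↥(Om P) => (v : ↥K ⧸ Z))
      (DFunLike.congr_fun hone (⟨_, hmem⟩ : ↥(Om P)))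
    simp only [ha₀, MulAut.one_apply, hα] at h
    have hcen : β ⟨w, hw.2⟩ * (⟨w, hw.2⟩ : ↥K)⁻¹ ∈ Z := by
      rw [← QuotientGroup.eq_one_iff]
      show q K _ = 1
      rw [map_mul, map_inv, h, mul_inv_cancel]
    exact mem_centralizer_of_mem_center hcen
  have e : n * a * n⁻¹ * a⁻¹ = n * w * n⁻¹ * w⁻¹ *
      (w * (n * (w⁻¹ * a) * n⁻¹ * (w⁻¹ * a)⁻¹) * w⁻¹) := by group
  rw [e]
  exact mul_mem h1 (conj_normalizer hwK (mul_mem (conj_normalizer hnC hwc) (inv_mem hwc)))

end Cfsg.Agent.Lib.Goldschmidt53.NoCover
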